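import Cfsg.Agent.Lib.Classical.PThree.TransOdd.Paired
import Cfsg.Agent.Lib.Classical.UThree.Basic
import Cfsg.Agent.Lib.Classical.UnitaryPlanes

/-!
# The unital case

If any two transvections are opposite or commute, `P` is twisted or is a special unitary group.
-/

set_option autoImplicit false
set_option linter.unusedSectionVars false
set_option linter.style.haveILetI false

namespace Cfsg.Agent.PThree

open Matrix Cfsg Cfsg.Geo
open Cfsg.Agent.Small.Generation
open Cfsg.Agent.Classical (IsUSigma suGL mem_GU_iff)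
open scoped MatrixGroups

variable {F : Type*} [Field F] [Fintype F] {P : Subgroup (GL (Fin 3) F)}

namespace Frame

variable {K : Subfield F} {τ : F ≃+* F} (D : Frame P K τ)

/-- The skew scalar. -/
def δ : F := D.β - τ D.β

theorem δ_ne : D.δ ≠ 0 := sub_ne_zero.2 (Ne.symm D.hβ)

theorem τ_δ : τ D.δ = -D.δ := by rw [δ, map_sub, D.hβ2, neg_sub]

/-- The invariant form. -/
noncomputable def f (x y : Fin 3 → F) : F := D.δ * ((D.Φ *ᵥ x) ⬝ᵥ (τ ∘ D.c y))

theorem f_add_left (x y z : Fin 3 → F) : D.f (x + y) z = D.f x z + D.f y z := by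
  simp only [f, Matrix.mulVec_add, add_dotProduct, mul_add]

theorem f_smul_left (a : F) (x z : Fin 3 → F) : D.f (a • x) z = a * D.f x z := by
  simp only [f, Matrix.mulVec_smul, smul_dotProduct, smul_eq_mul]; ring

theorem f_add_right (x y z : Fin 3 → F) : D.f x (y + z) = D.f x y + D.f x z := by
  simp only [f, c, Matrix.mulVec_add]
  rw [show ∀ a b : Fin 3 → F, τ ∘ (a + b) = τ ∘ a + τ ∘ b from fun a b => funext fun _ => map_add τ _ _,
    dotProduct_add, mul_add]

theorem f_smul_right (a : F) (x z : Fin 3 → F) : D.f x (a • z) = τ a * D.f x z := by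
  simp only [f, c, Matrix.mulVec_smul]
  rw [show ∀ w : Fin 3 → F, τ ∘ (a • w) = τ a • (τ ∘ w) from fun w => funext fun _ => map_mul τ _ _,
    dotProduct_smul, smul_eq_mul]
  ring

theorem f_good {u χ : Fin 3 → F} (h : D.Good u χ) (x : Fin 3 → F) : D.f x u = D.δ * (χ ⬝ᵥ x) := by
  rw [D.good_axis h, ← Matrix.dotProduct_mulVec, f, dotProduct_comm (D.Φ *ᵥ x)]

section Inv

variable (hinv : ∀ x, τ (τ x) = x)
include D hinv

theorem f_herm (x y : Fin 3 → F) : D.f x y = τ (D.f y x) := by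
  have hx : ∀ z, D.Φ *ᵥ z = D.A *ᵥ D.c z := fun z => by
    rw [D.A_eq, ← Matrix.mulVec_mulVec, D.V_c]
  have hA : D.A.map τ = -D.Aᵀ := by
    ext i j
    show τ (D.φ i ⬝ᵥ D.v j) = -(D.φ j ⬝ᵥ D.v i)
    rw [D.skew i j, neg_neg]
  simp only [f, hx]
  rw [map_mul, D.τ_δ, ← RingEquiv.coe_toRingHom, RingHom.map_dotProduct, RingEquiv.coe_toRingHom,
    show τ ∘ (τ ∘ D.c x) = D.c x from funext fun k => hinv _, ← map_mulVec', hA, Matrix.neg_mulVec,
    neg_dotProduct, neg_mul_neg, Matrix.mulVec_transpose, ← Matrix.dotProduct_mulVec, dotProduct_comm]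

theorem isUnitaryForm : IsUnitaryForm τ D.f where
  ne_refl := fun e => D.hβ (DFunLike.congr_fun e D.β)
  involutive := hinv
  add_left := D.f_add_left
  smul_left := D.f_smul_left
  herm := D.f_herm hinv
  nondegenerate := by
    intro v hv
    have hc : D.c v ≠ 0 := fun e => hv (by rw [← D.V_c v, e, Matrix.mulVec_zero])
    obtain ⟨k, hk⟩ := Function.ne_iff.1 hc
    obtain ⟨x, hx⟩ : ∃ x, D.Φ *ᵥ x = Pi.single k 1 :=
      ⟨D.Φ⁻¹ *ᵥ Pi.single k 1, by
        rw [Matrix.mulVec_mulVec, Matrix.mul_nonsing_inv _ (Ne.isUnit D.Φ_det), Matrix.one_mulVec]⟩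
    have h1 : D.f x v ≠ 0 := by
      rw [f, hx, single_dotProduct, one_mul]
      exact mul_ne_zero D.δ_ne fun e => hk (τ.map_eq_zero_iff.1 e)
    exact ⟨⟨x, h1⟩, x, fun e => h1 (by rw [D.f_herm hinv, e, map_zero])⟩

theorem fixes (H : Paired P) (h : Ctx P) (h2 : (2 : F) ≠ 0) : FixesForm (matrixSet P) D.f := by
  let X : Subgroup (GL (Fin 3) F) :=
    { carrier := {g | ∀ x y, D.f ((g : Matrix (Fin 3) (Fin 3) F) *ᵥ x)
        ((g : Matrix (Fin 3) (Fin 3) F) *ᵥ y) = D.f x y}
      one_mem' := fun x y => by rw [Units.val_one, Matrix.one_mulVec, Matrix.one_mulVec]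
      mul_mem' := fun {a b} ha hb x y => by
        rw [Units.val_mul, ← Matrix.mulVec_mulVec, ← Matrix.mulVec_mulVec, ha, hb]
      inv_mem' := fun {a} ha x y => by
        conv_rhs => rw [← Cfsg.Agent.Classical.gl_mulVec_inv_cancel a x,
          ← Cfsg.Agent.Classical.gl_mulVec_inv_cancel a y, ha] }
  have hv : D.v 0 ≠ 0 := fun e => by
    have := D.a10; rw [e, dotProduct_zero, eq_comm, neg_eq_zero] at this; exact one_ne_zero this
  have hφ : D.φ 0 ≠ 0 := fun e => by
    have := D.a01; rw [e, zero_dotProduct] at this; exact zero_ne_one this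
  have hX : P ≤ X := h.le_of_roots hv hφ (D.fld 0).root fun u χ hu hχ hr g hg x y => by
    obtain ⟨u', χ', a, b, rfl, rfl, hab, hgood⟩ := D.all_good H h2 h.absIrred.1 hu hχ hr
    have hdot : χ' ⬝ᵥ u' = 0 := by
      have := hr.1
      rw [smul_dotProduct, dotProduct_smul, smul_eq_mul, smul_eq_mul, ← mul_assoc, mul_eq_zero] at this
      exact this.resolve_left (mul_ne_zero (fun e => hχ (by rw [e, zero_smul]))
        fun e => hu (by rw [e, zero_smul]))
    have hgx : ∀ z, (g : Matrix (Fin 3) (Fin 3) F) *ᵥ z = z + ((a * b) * (χ' ⬝ᵥ z)) • u' := fun z => by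
      rw [hg, tv_mulVec, smul_dotProduct, smul_smul, smul_eq_mul]
      congr 2
      ring
    have hτab : τ (a * b) = a * b := (D.hτ _).2 hab
    rw [hgx, hgx, D.f_add_left, D.f_smul_left, D.f_add_right, D.f_add_right, D.f_smul_right,
      D.f_smul_right, map_mul τ (a * b), hτab, D.f_herm hinv u' y, D.f_good hgood, D.f_good hgood,
      D.f_good hgood, hdot, map_mul, D.τ_δ]
    ring
  rintro _ ⟨g, hg, rfl⟩ x y
  exact hX hg x y

theorem card_eq : Fintype.card F = Nat.card K ^ 2 ∨ ¬ (∀ x, τ x = x ^ Nat.card K) := by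
  classical
  by_cases hpow : ∀ x, τ x = x ^ Nat.card K
  swap; · exact Or.inr hpow
  left
  rw [Nat.card_eq_fintype_card] at hpow ⊢
  have h1 : 1 < Fintype.card K := Fintype.one_lt_card
  refine le_antisymm ?_ ?_
  · have hlt : 1 < Fintype.card K ^ 2 := Nat.one_lt_pow two_ne_zero h1
    have hne := FiniteField.X_pow_card_sub_X_ne_zero F hlt
    have hZ := Polynomial.card_le_degree_of_subset_roots (Z := (Finset.univ : Finset F))
      (p := (Polynomial.X ^ (Fintype.card K ^ 2) - Polynomial.X : Polynomial F)) (fun a _ => by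
        rw [Polynomial.mem_roots hne]
        have : a ^ (Fintype.card K ^ 2) = a := by
          rw [pow_two, pow_mul, ← hpow, ← hpow, hinv]
        simp [this])
    rwa [Finset.card_univ, FiniteField.X_pow_card_sub_X_natDegree_eq F hlt] at hZ
  · rw [Module.card_eq_pow_finrank (K := K) (V := F)]
    refine Nat.pow_le_pow_right (by omega) ?_
    by_contra hlt
    have hpos : 0 < Module.finrank K F := Module.finrank_pos
    have e : Fintype.card F = Fintype.card K := by
      rw [Module.card_eq_pow_finrank (K := K) (V := F), show Module.finrank K F = 1 by omega, pow_one]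
    refine D.hβ ?_
    rw [hpow, ← e, FiniteField.pow_card]

theorem full (h2 : (2 : F) ≠ 0) (hPS : P ≤ specialLinear (Fin 3) F)
    (hfix : FixesForm (matrixSet P) D.f) (hσ : IsUSigma (Nat.card K) τ) :
    ∀ g ∈ specialLinear (Fin 3) F,
      FixesForm {(g : Matrix (Fin 3) (Fin 3) F)} D.f → g ∈ P := by
  classical
  set q := Nat.card K with hq
  have h3 : 3 ≤ q := by
    have : ({0, 1, 2} : Finset K).card ≤ Fintype.card K := Finset.card_le_univ _
    have h2' : (2 : K) ≠ 0 := fun e =>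
      h2 ((map_ofNat K.subtype 2).symm.trans ((congrArg K.subtype e).trans (map_zero _)))
    rw [Finset.card_eq_three.2 ⟨0, 1, 2, zero_ne_one, Ne.symm h2', fun e => one_ne_zero (α := K)
      (by linear_combination -e), rfl⟩, ← Nat.card_eq_fintype_card] at this
    exact this
  obtain ⟨E, hE⟩ := Cfsg.Agent.Classical.UPlanes.exists_std hσ (V := Fin 3 → F) (h := D.f)
    ⟨D.f_add_left, D.f_smul_left, fun x y => (D.f_herm hinv y x).symm, fun v hv => by
      by_contra hne
      obtain ⟨-, w, hw⟩ := (D.isUnitaryForm hinv).nondegenerate v hne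
      exact hw (hv w)⟩ (k := 3) (by simp)
  have hMu : IsUnit (LinearMap.toMatrix' (E : (Fin 3 → F) →ₗ[F] (Fin 3 → F))) := by
    refine Matrix.mulVec_injective_iff_isUnit.1 fun a b e => E.injective ?_
    simpa [LinearMap.toMatrix'_mulVec] using e
  set M : GL (Fin 3) F := hMu.unit
  have hM : ∀ x, (M : Matrix (Fin 3) (Fin 3) F) *ᵥ x = E x := fun x =>
    LinearMap.toMatrix'_mulVec _ x
  have hMi : ∀ x, E (((M⁻¹ : GL (Fin 3) F) : Matrix (Fin 3) (Fin 3) F) *ᵥ x) = x := fun x => by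
    rw [← hM, Cfsg.Agent.Classical.gl_mulVec_inv_cancel]
  have hherm : ∀ x y, hermForm 3 F q x y = D.f (((M⁻¹ : GL (Fin 3) F) : Matrix (Fin 3) (Fin 3) F) *ᵥ x)
      (((M⁻¹ : GL (Fin 3) F) : Matrix (Fin 3) (Fin 3) F) *ᵥ y) := fun x y => by
    conv_lhs => rw [← hMi x, ← hMi y, hE]
  set Q := inBasis P M⁻¹ with hQdef
  have hmem : ∀ g, g ∈ Q ↔ M⁻¹ * g * M ∈ P := fun g => by
    rw [hQdef, mem_inBasis, inv_inv]
  have hQS : Q ≤ suGL 3 F q := by
    intro g hg
    rw [hmem] at hg
    refine ⟨mem_GU_iff.2 fun u v => ?_, ?_⟩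
    · have := hfix _ ⟨_, hg, rfl⟩ (((M⁻¹ : GL (Fin 3) F) : Matrix (Fin 3) (Fin 3) F) *ᵥ u)
        (((M⁻¹ : GL (Fin 3) F) : Matrix (Fin 3) (Fin 3) F) *ᵥ v)
      simp only [Matrix.mulVec_mulVec, ← Units.val_mul, mul_assoc, mul_inv_cancel, mul_one] at this
      rw [hherm, hherm, Matrix.mulVec_mulVec, Matrix.mulVec_mulVec, ← Units.val_mul, this]
    · have := hPS hg
      show g ∈ specialLinear (Fin 3) F
      rw [specialLinear, MonoidHom.mem_ker] at this ⊢
      rwa [map_mul, map_mul, mul_right_comm, map_inv, inv_mul_cancel, one_mul] at this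
  obtain ⟨e, he0, he1, he2⟩ := exists_perp (D.φ 0) (D.φ 1)
  have hf0 : ∀ z, D.f e z = D.δ * ((D.φ 2 ⬝ᵥ e) * τ (D.c z 2)) := fun z => by
    show D.δ * ∑ i, (D.Φ *ᵥ e) i * τ (D.c z i) = _
    simp [Fin.sum_univ_three, Frame.Φ_mulVec, he1, he2]
  have he3 : D.φ 2 ⬝ᵥ e ≠ 0 := fun e3 => he0 (by
    refine Matrix.mulVec_injective_iff_isUnit.2
      ((Matrix.isUnit_iff_isUnit_det _).2 (Ne.isUnit D.Φ_det)) ?_
    rw [Matrix.mulVec_zero]
    funext i
    fin_cases i <;> simp [Frame.Φ_mulVec, he1, he2, e3])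
  have hexp : ∀ z, z = D.c z 0 • D.v 0 + D.c z 1 • D.v 1 + D.c z 2 • D.v 2 := fun z => by
    conv_lhs => rw [← D.V_c z]
    funext k
    simp [Frame.V₀, Matrix.mulVec, dotProduct, Fin.sum_univ_three, mul_comm]
  have hee : D.f e e ≠ 0 := by
    rw [hf0]
    refine mul_ne_zero D.δ_ne (mul_ne_zero he3 fun h0 => ?_)
    rw [τ.map_eq_zero_iff] at h0
    have a := he1; have b := he2
    rw [hexp e, h0, zero_smul, add_zero] at a b
    simp [dotProduct_add, dotProduct_smul, D.a01, D.a10, (D.fld _).root.1] at a b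
    exact he0 (by rw [hexp e, h0, a, b]; simp)
  have hcomb : ∀ t ∈ K, D.Good (D.v 0 + t • D.v 1) (D.φ 0 + t • D.φ 1) ∧
      ∀ s ∈ K, Root P (s • (D.v 0 + t • D.v 1)) (D.φ 0 + t • D.φ 1) := by
    intro t ht
    refine ⟨fun j => ⟨?_, ?_⟩, fun s hs => ?_⟩
    · simp only [add_dotProduct, smul_dotProduct, dotProduct_add, dotProduct_smul, smul_eq_mul, map_add,
        map_mul, (D.hτ t).2 ht]
      rw [D.skew j 0, D.skew j 1]; ring
    · simp only [dotProduct_add, dotProduct_smul, smul_eq_mul, map_add, map_mul, (D.hτ t).2 ht, D.fix2]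
    · have := ((D.fld 0 s).2 hs).conj_root ((D.fld 1 (-t)).2 (K.neg_mem ht))
      simp only [dotProduct_neg, dotProduct_smul, smul_eq_mul, D.a01, D.a10, mul_one, neg_smul,
        sub_neg_eq_add] at this
      convert this using 1
      module
  have hfull : suGL 3 F q ≤ Q := by
    obtain ⟨g₂, hg₂, hg₂e⟩ := (D.fld 2).root.2
    refine Cfsg.Agent.Classical.UThree.full_of_chord hσ h3 hQS
      (e := E e) (by rw [hE]; exact hee) (fun z c hzz hze hc t ht => ?_)
      (g := M * g₂ * M⁻¹) (by rw [hmem]; simpa [mul_assoc] using hg₂) fun a ha => ?_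
    · set y := ((M⁻¹ : GL (Fin 3) F) : Matrix (Fin 3) (Fin 3) F) *ᵥ z with hy
      have hzy : z = E y := (hMi z).symm
      rw [hzy, hE] at hzz hze
      have hy2 : D.c y 2 = 0 := by
        have h1 := D.f_herm hinv e y
        rw [hze, map_zero, hf0, mul_eq_zero, mul_eq_zero, τ.map_eq_zero_iff] at h1
        exact (h1.resolve_left D.δ_ne).resolve_left he3
      have hyv : y = D.c y 0 • D.v 0 + D.c y 1 • D.v 1 := by
        conv_lhs => rw [hexp y, hy2, zero_smul, add_zero]
      have hσt : ∀ x, ((M⁻¹ * t * M : GL (Fin 3) F) : Matrix (Fin 3) (Fin 3) F) *ᵥ x =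
          x + (c * D.f x y) • y := fun x => by
        rw [Units.val_mul, Units.val_mul, ← Matrix.mulVec_mulVec, ← Matrix.mulVec_mulVec, ht,
          Matrix.mulVec_add, Matrix.mulVec_smul, Matrix.mulVec_mulVec _ _ (M : Matrix (Fin 3) (Fin 3) F),
          Units.inv_mul, Matrix.one_mulVec, ← hy, hM, hzy, hE]
      rw [hmem]
      have hτc : τ c = -c := eq_neg_of_add_eq_zero_left (by rw [add_comm]; exact hc)
      set x0 := D.c y 0
      set x1 := D.c y 1
      -- the centre is a rational combination of the first two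
      obtain ⟨w, χ, x, hyw, hgood, hroot⟩ : ∃ (w χ : Fin 3 → F) (x : F), y = x • w ∧ D.Good w χ ∧
          ∀ s ∈ K, Root P (s • w) χ := by
        by_cases hx : x0 = 0
        · exact ⟨D.v 1, D.φ 1, x1, by rw [hyv, hx, zero_smul, zero_add], D.good_v 1,
            fun s hs => (D.fld 1 s).2 hs⟩
        · have ht' : x1 / x0 ∈ K := by
            rw [← D.hτ]
            have hff : D.f y y = D.δ * (x1 * τ x0 - x0 * τ x1) := by
              conv_lhs => rw [hyv]
              rw [D.f_add_left, D.f_smul_left, D.f_smul_left, D.f_add_right, D.f_add_right,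
                D.f_smul_right, D.f_smul_right, D.f_smul_right, D.f_smul_right,
                D.f_good (D.good_v 0), D.f_good (D.good_v 1), D.f_good (D.good_v 0),
                D.f_good (D.good_v 1), D.a01, D.a10, (D.fld 0).root.1, (D.fld 1).root.1]
              ring
            rw [hff, mul_eq_zero, sub_eq_zero] at hzz
            have h4 := hzz.resolve_left D.δ_ne
            rw [map_div₀, div_eq_div_iff (fun e => hx (τ.map_eq_zero_iff.1 e)) hx]
            linear_combination -h4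
          refine ⟨_, _, x0, ?_, (hcomb _ ht').1, (hcomb _ ht').2⟩
          rw [hyv, smul_add, smul_smul, mul_div_cancel₀ _ hx]
      set s := c * D.δ * (x * τ x)
      have hs : s ∈ K := by
        rw [← D.hτ]
        simp only [s, map_mul, hτc, D.τ_δ, hinv]
        ring
      refine root_to_mem (hroot s hs) (ext_mulVec fun z' => ?_)
      rw [hσt, tv_mulVec, hyw, D.f_smul_right, D.f_good hgood, smul_smul, smul_smul]
      congr 2
      simp only [s]; ring
    · rw [Units.val_mul, Units.val_mul, ← Matrix.mulVec_mulVec, ← Matrix.mulVec_mulVec] at ha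
      rw [show ((M⁻¹ : GL (Fin 3) F) : Matrix (Fin 3) (Fin 3) F) *ᵥ E e = e by
        rw [← hM, Cfsg.Agent.Classical.gl_inv_mulVec_cancel], hM, ← map_smul] at ha
      have := congrArg (D.φ 0 ⬝ᵥ ·) (E.injective ha)
      simp only [hg₂e, tv_mulVec, dotProduct_add, dotProduct_smul, he1, D.a02, smul_eq_mul, mul_zero,
        mul_one, zero_add] at this
      exact he3 this
  intro g hg hgf
  have hm : M * g * M⁻¹ ∈ suGL 3 F q := by
    refine ⟨mem_GU_iff.2 fun u v => ?_, ?_⟩
    · rw [hherm, hherm u v, Units.val_mul, Units.val_mul]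
      simp only [Matrix.mulVec_mulVec, ← Matrix.mul_assoc, Units.inv_mul, Matrix.one_mul]
      rw [← Matrix.mulVec_mulVec, ← Matrix.mulVec_mulVec]
      exact hgf _ rfl _ _
    · show M * g * M⁻¹ ∈ specialLinear (Fin 3) F
      rw [specialLinear, MonoidHom.mem_ker] at hg ⊢
      rw [map_mul, map_mul, hg, mul_one, map_inv, mul_inv_cancel]
  have := hfull hm
  rw [hmem] at this
  simpa [mul_assoc] using this

end Inv

end Frame

/-- No centre with two axes. -/
theorem case_unital (h : Ctx P) (h2 : (2 : F) ≠ 0) (H : Paired P) {v₀ φ₀ : Fin 3 → F} (hv₀ : v₀ ≠ 0)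
    (hφ₀ : φ₀ ≠ 0) (r₀ : Root P v₀ φ₀) :
    (∃ τ : F ≃+* F, τ ≠ RingEquiv.refl F ∧ Twist P τ) ∨
      ∃ (σ : F ≃+* F) (f : (Fin 3 → F) → (Fin 3 → F) → F), IsUnitaryForm σ f ∧
        FixesForm (matrixSet P) f ∧
        ∀ g ∈ specialLinear (Fin 3) F, FixesForm {(g : Matrix (Fin 3) (Fin 3) F)} f → g ∈ P := by
  have hirr := h.absIrred.1
  obtain ⟨K, τ, ⟨D⟩, hpow⟩ := H.exists_frame h2 hirr hv₀ hφ₀ r₀
  by_cases hinv : ∀ x, τ (τ x) = x
  · refine Or.inr ⟨τ, D.f, D.isUnitaryForm hinv, D.fixes hinv H h h2,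
      D.full hinv h2 h.le_sl (D.fixes hinv H h h2)
        ⟨(D.card_eq hinv).resolve_right (fun e => e hpow), hpow, hinv, fun e => D.hβ (DFunLike.congr_fun e D.β)⟩⟩
  · refine Or.inl ⟨τ.trans τ, fun e => hinv fun x => by
      show (τ.trans τ) x = x
      rw [e]; rfl, twist_of_rat h hv₀ hφ₀ r₀ D.V (τ.trans τ) fun u χ hu hχ hr i j => ?_⟩
    obtain ⟨u', χ', a, b, rfl, rfl, hab, hgood⟩ := D.all_good H h2 hirr hu hχ hr
    show τ (τ _) = _
    rw [Matrix.mulVec_smul, Matrix.smul_vecMul, Pi.smul_apply, Pi.smul_apply, smul_eq_mul, smul_eq_mul,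
      D.vecMul_V, (hgood j).1]
    change τ (τ (a * D.c u' i * (b * -τ (D.φ j ⬝ᵥ u')))) = a * D.c u' i * (b * -τ (D.φ j ⬝ᵥ u'))
    rw [show a * (D.c u' i) * (b * -τ (D.φ j ⬝ᵥ u')) =
        (a * b) * ((D.c u' i) * -τ (D.φ j ⬝ᵥ u')) by ring]
    rw [map_mul τ (a * b), (D.hτ _).2 hab, map_mul τ (a * b), (D.hτ _).2 hab]
    simp only [map_mul, map_neg, D.good_fix hgood, (hgood j).2]

end Cfsg.Agent.PThree
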