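import Cfsg.Agent.Lib.Classical.PThree.TransOdd.Gen
import Cfsg.Agent.Lib.Classical.LinBasic

/-!
# Two axes at one centre

If some centre carries two axes, then in a suitable basis `P` contains all root groups over the
common field `K` and is rational over it: it is the whole special linear group or twisted.
-/

set_option autoImplicit false
set_option linter.unusedSectionVars false
set_option linter.style.haveILetI false

namespace Cfsg.Agent.PThree

open Matrix Cfsg Cfsg.Geo
open Cfsg.Agent.Small.Generation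
open scoped MatrixGroups

variable {F : Type*} [Field F] [Fintype F] {P Q : Subgroup (GL (Fin 3) F)}

/-- The standard vectors. -/
abbrev ev (i : Fin 3) : Fin 3 → F := Pi.single i 1

theorem ev_dot (i : Fin 3) (u : Fin 3 → F) : ev i ⬝ᵥ u = u i := by simp [ev]

theorem dot_ev (i : Fin 3) (u : Fin 3 → F) : u ⬝ᵥ ev i = u i := by simp [ev]

theorem rat_of_all {K : Subfield F} (h2 : (2 : F) ≠ 0) (hirr : ActsIrreducibly (matrixSet Q))
    (g : ∀ i j, i ≠ j → HasField Q K (ev i) (ev j)) {u χ : Fin 3 → F} (hr : Root Q u χ) :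
    ∀ i j, u i * χ j ∈ K := by
  have hoff : ∀ i j, i ≠ j → u i * χ j ∈ K := fun i j hij => by
    have := (g j i hij.symm).test h2 hirr hr
    rwa [ev_dot, dot_ev] at this
  have hd : ∀ i j, i ≠ j → u j * χ j - u i * χ i ∈ K := fun i j hij => by
    have := ((g i j hij).conj (g j i hij.symm).root).test h2 hirr hr
    simp only [ev_dot, dot_ev, Pi.single_eq_same, one_smul, sub_dotProduct, dotProduct_add] at this
    have h := K.sub_mem (K.add_mem this (hoff i j hij)) (hoff j i hij.symm)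
    convert h using 1
    ring
  have hdiag : ∀ i j k, i ≠ j → i ≠ k → j ≠ k → u i * χ i ∈ K := by
    intro i j k hij hik hjk
    by_cases hj : u j * χ j = 0
    · have := hd i j hij
      rw [hj, zero_sub] at this
      exact neg_mem_iff.1 this
    by_cases hk : u k * χ k = 0
    · have := hd i k hik
      rw [hk, zero_sub] at this
      exact neg_mem_iff.1 this
    have h := K.mul_mem (K.mul_mem (hoff i k hik) (hoff j i hij.symm)) (K.inv_mem (hoff j k hjk))
    convert h using 1
    have := (mul_ne_zero_iff.1 hj).1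
    have := (mul_ne_zero_iff.1 hk).2
    field_simp
  intro i j
  by_cases hij : i = j
  · subst hij
    fin_cases i
    · exact hdiag 0 1 2 (by decide) (by decide) (by decide)
    · exact hdiag 1 0 2 (by decide) (by decide) (by decide)
    · exact hdiag 2 0 1 (by decide) (by decide) (by decide)
  · exact hoff i j hij

/-- The configuration in standard coordinates yields all root groups. -/
theorem all_of_two_axes {K : Subfield F} (h2 : (2 : F) ≠ 0) (hirr : ActsIrreducibly (matrixSet Q))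
    (g01 : HasField Q K (ev 0) (ev 1)) (g10 : HasField Q K (ev 1) (ev 0))
    (g02 : ∀ x ∈ K, Root Q (x • ev 0) (ev 2)) (g12 : ∀ x ∈ K, Root Q (x • ev 1) (ev 2))
    {u χ : Fin 3 → F} (hr : Root Q u χ) (hu : u 2 ≠ 0) (hχ : χ ≠ 0) :
    ∀ i j, i ≠ j → HasField Q K (ev i) (ev j) := by
  have r02 : Root Q (ev 0) (ev 2) := by simpa using g02 1 K.one_mem
  have r12 : Root Q (ev 1) (ev 2) := by simpa using g12 1 K.one_mem
  have c0 : HasField Q K (ev 0) (ev 1 - ev 2) := by simpa [ev_dot] using g01.conj r12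
  have c1 : HasField Q K (ev 1) (ev 0 - ev 2) := by simpa [ev_dot] using g10.conj r02
  have c2 : HasField Q K (ev 0 + ev 1) (ev 1 - ev 0) := by simpa [ev_dot] using g01.conj g10.root
  have t10 : u 1 * χ 0 ∈ K := by simpa [ev_dot, dot_ev] using g01.test h2 hirr hr
  have t01 : u 0 * χ 1 ∈ K := by simpa [ev_dot, dot_ev] using g10.test h2 hirr hr
  have t20 : u 2 * χ 0 ∈ K := by
    have h := c0.test h2 hirr hr
    rw [sub_dotProduct, ev_dot, ev_dot, dot_ev] at h
    convert K.sub_mem t10 h using 1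
    ring
  have t21 : u 2 * χ 1 ∈ K := by
    have h := c1.test h2 hirr hr
    rw [sub_dotProduct, ev_dot, ev_dot, dot_ev] at h
    convert K.sub_mem t01 h using 1
    ring
  have t2 : (u 1 - u 0) * (χ 0 + χ 1) ∈ K := by
    have h := c2.test h2 hirr hr
    rwa [sub_dotProduct, dotProduct_add, ev_dot, ev_dot, dot_ev, dot_ev] at h
  have h01 : χ 0 ≠ 0 ∨ χ 1 ≠ 0 := by
    by_contra h
    push Not at h
    have h0 := hr.1
    simp only [dotProduct, Fin.sum_univ_three, h.1, h.2, zero_mul, zero_add] at h0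
    have h2' := (mul_eq_zero.1 h0).resolve_right hu
    exact hχ (funext fun i => by fin_cases i <;> simp [h.1, h.2, h2'])
  -- the ratios
  have q0 : u 0 / u 2 ∈ K := by
    by_cases h1 : χ 1 = 0
    · have h0 := h01.resolve_right (fun h => h h1)
      rw [h1, add_zero] at t2
      convert K.div_mem (K.sub_mem t10 t2) t20 using 1
      field_simp; ring
    · convert K.div_mem t01 t21 using 1
      field_simp
  have q1 : u 1 / u 2 ∈ K := by
    by_cases h0 : χ 0 = 0
    · have h1 := h01.resolve_left (fun h => h h0)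
      rw [h0, zero_add] at t2
      convert K.div_mem (K.add_mem t2 t01) t21 using 1
      field_simp; ring
    · convert K.div_mem t10 t20 using 1
      field_simp
  -- a pure centre
  obtain ⟨χ', hp, e0, e1⟩ : ∃ χ', Root Q (u 2 • ev 2) χ' ∧ χ' 0 = χ 0 ∧ χ' 1 = χ 1 := by
    have h1 := (hr.conj_root (g02 _ (K.neg_mem q0))).conj_root (g12 _ (K.neg_mem q1))
    refine ⟨_, (congrArg (fun z => Root Q z _) ?_).mp h1, ?_, ?_⟩
    · funext i
      fin_cases i <;> simp [ev_dot] <;> field_simp <;> ring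
    all_goals simp
  have up : ∀ y ∈ K, Root Q (y • ev 2) (ev 1) ∧ Root Q (y • ev 2) (ev 0) := by
    intro y hy
    have mv1 : ∀ {z : F}, Root Q (z • ev 2) (ev 1) → Root Q (z • ev 2) (ev 0) := fun {z} h => by
      simpa [ev_dot] using h.second_axis g10.root (by simp [ev_dot])
    have mv0 : ∀ {z : F}, Root Q (z • ev 2) (ev 0) → Root Q (z • ev 2) (ev 1) := fun {z} h => by
      simpa [ev_dot] using h.second_axis g01.root (by simp [ev_dot])
    by_cases h0 : χ 0 = 0
    · have h1 := h01.resolve_left (fun h => h h0)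
      have hz : Root Q (y • ev 2) (ev 0) := by
        have := hp.second_axis ((g10 (y / (u 2 * χ 1))).2 (K.div_mem hy t21)) (by simp [ev_dot])
        rw [← root_smul_iff, smul_smul, dotProduct_smul, dot_ev, e1, smul_eq_mul] at this
        convert this using 2
        field_simp
      exact ⟨mv0 hz, hz⟩
    · have hz : Root Q (y • ev 2) (ev 1) := by
        have := hp.second_axis ((g01 (y / (u 2 * χ 0))).2 (K.div_mem hy t20)) (by simp [ev_dot])
        rw [← root_smul_iff, smul_smul, dotProduct_smul, dot_ev, e0, smul_eq_mul] at this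
        convert this using 2
        field_simp
      exact ⟨hz, mv1 hz⟩
  have r21 : Root Q (ev 2) (ev 1) := by simpa using (up 1 K.one_mem).1
  have r20 : Root Q (ev 2) (ev 0) := by simpa using (up 1 K.one_mem).2
  have g21 : HasField Q K (ev 2) (ev 1) := c1.opposite h2 hirr r21 (by simp [ev_dot]) (by simp [ev_dot])
  have g20 : HasField Q K (ev 2) (ev 0) := c0.opposite h2 hirr r20 (by simp [ev_dot]) (by simp [ev_dot])
  have g12' : HasField Q K (ev 1) (ev 2) := g21.opposite h2 hirr r12 (by simp [ev_dot]) (by simp [ev_dot])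
  have g02' : HasField Q K (ev 0) (ev 2) := g20.opposite h2 hirr r02 (by simp [ev_dot]) (by simp [ev_dot])
  intro i j hij
  fin_cases i <;> fin_cases j <;> first | exact absurd rfl hij | assumption

/-- Two axes at one centre. -/
theorem case_two_axes (h : Ctx P) (h2 : (2 : F) ≠ 0) {v φ φ' : Fin 3 → F} (hv : v ≠ 0) (hφ : φ ≠ 0)
    (r1 : Root P v φ) (r2 : Root P v φ') (hind : ∀ s : F, φ' ≠ s • φ) :
    P = specialLinear (Fin 3) F ∨ ∃ τ : F ≃+* F, τ ≠ RingEquiv.refl F ∧ Twist P τ := by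
  classical
  have hirr := h.absIrred.1
  obtain ⟨w, ψ, hw, hφw, hψv⟩ := exists_opposite hirr hv hφ r1
  obtain ⟨K, hKv, hKw, hK⟩ := exists_field h2 hirr r1 hw hφw hψv
  obtain ⟨ρ, hρ, rρ, hρw⟩ : ∃ ρ, ρ ≠ 0 ∧ Root P v ρ ∧ ρ ⬝ᵥ w = 0 := by
    by_cases h' : φ' ⬝ᵥ w = 0
    · exact ⟨φ', fun e => hind 0 (by rw [e, zero_smul]), r2, h'⟩
    · obtain ⟨L, hL1, hL2, hL⟩ := exists_field h2 hirr r2 hw h' hψv
      have eKL : L = K := hL2.unique hKw
      rw [eKL] at hL
      have ht : φ' ⬝ᵥ w / (φ ⬝ᵥ w) ∈ K := by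
        convert K.div_mem hL hK using 1
        field_simp
      refine ⟨φ' - (φ' ⬝ᵥ w / (φ ⬝ᵥ w)) • φ, sub_ne_zero.2 (hind _),
        r2.sub_right (root_smul_iff.1 ((hKv _).2 ht)), ?_⟩
      rw [sub_dotProduct, smul_dotProduct, smul_eq_mul, div_mul_cancel₀ _ hφw, sub_self]
  set C₀ : Matrix (Fin 3) (Fin 3) F := Matrix.of ![(ψ ⬝ᵥ v)⁻¹ • ψ, φ, ρ] with hC₀
  have hC₀u : IsUnit C₀ := by
    refine Matrix.vecMul_injective_iff_isUnit.1 fun c c' hcc => sub_eq_zero.1 ?_
    set d := c - c'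
    have hd : d ᵥ* C₀ = 0 := by rw [Matrix.sub_vecMul]; exact sub_eq_zero.2 hcc
    have e : d 0 • ((ψ ⬝ᵥ v)⁻¹ • ψ) + d 1 • φ + d 2 • ρ = 0 := by
      rw [← hd]
      funext k
      simp [hC₀, Matrix.vecMul, dotProduct, Fin.sum_univ_three]
    have e0 := congrArg (· ⬝ᵥ v) e
    simp [add_dotProduct, smul_dotProduct, r1.1, rρ.1, hψv] at e0
    have e1 := congrArg (· ⬝ᵥ w) e
    simp [add_dotProduct, smul_dotProduct, hρw, hφw, e0] at e1
    have e2 : d 2 • ρ = 0 := by simpa [e0, e1] using e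
    funext k
    fin_cases k
    · exact e0
    · exact e1
    · exact (smul_eq_zero.1 e2).resolve_right hρ
  set C : GL (Fin 3) F := hC₀u.unit with hC
  set B := C⁻¹ with hBdef
  have hBi : B⁻¹ = C := inv_inv C
  have hCval : (C : Matrix (Fin 3) (Fin 3) F) = C₀ := rfl
  have hrow : ∀ j, ev j ᵥ* ((B⁻¹ : GL (Fin 3) F) : Matrix (Fin 3) (Fin 3) F) = C₀ j := fun j => by
    rw [hBi, hCval, Matrix.single_one_vecMul]; rfl
  have hcol : ∀ {x : Fin 3 → F} {i : Fin 3}, C₀ *ᵥ x = ev i →
      (B : Matrix (Fin 3) (Fin 3) F) *ᵥ ev i = x := fun {x i} hx => by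
    rw [← hx, ← hCval, Matrix.mulVec_mulVec, hBdef, Units.inv_mul, Matrix.one_mulVec]
  have hv' : (B : Matrix (Fin 3) (Fin 3) F) *ᵥ ev 0 = v := by
    refine hcol (funext fun i => (rfl : (C₀ *ᵥ _) i = C₀ i ⬝ᵥ _).trans ?_)
    fin_cases i <;> simp [hC₀, r1.1, rρ.1, hψv]
  have hw' : (B : Matrix (Fin 3) (Fin 3) F) *ᵥ ev 1 = (φ ⬝ᵥ w)⁻¹ • w := by
    refine hcol (funext fun i => (rfl : (C₀ *ᵥ _) i = C₀ i ⬝ᵥ _).trans ?_)
    fin_cases i <;> simp [hC₀, hw.1, hρw, hφw]
  set Q := inBasis P B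
  have hirrQ : ActsIrreducibly (matrixSet Q) := irreducible_inBasis B hirr
  have tr : ∀ {x : F} {i j : Fin 3}, Root Q (x • ev i) (ev j) ↔
      Root P (x • ((B : Matrix (Fin 3) (Fin 3) F) *ᵥ ev i)) (C₀ j) := fun {x i j} => by
    rw [root_inBasis, Matrix.mulVec_smul, hrow]
  have g01 : HasField Q K (ev 0) (ev 1) := fun x => by
    rw [tr, hv']; exact hKv x
  have g10 : HasField Q K (ev 1) (ev 0) := fun x => by
    rw [tr, hw']
    refine hKw.smul ?_ ?_ x
    · rw [← mul_inv]; exact K.inv_mem hK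
    · exact mul_ne_zero (inv_ne_zero hφw) (inv_ne_zero hψv)
  have g12 : ∀ x ∈ K, Root Q (x • ev 1) (ev 2) := fun x hx => by
    have h' := (hKw.smul (a := (φ ⬝ᵥ w)⁻¹) (b := (ψ ⬝ᵥ v)⁻¹) (by rw [← mul_inv]; exact K.inv_mem hK)
      (mul_ne_zero (inv_ne_zero hφw) (inv_ne_zero hψv)) x).2 hx
    rw [tr, hw']
    have := rρ.second_centre h' (by simp [dotProduct_smul, hρw])
    rwa [smul_dotProduct, smul_eq_mul, inv_mul_cancel₀ hψv, one_smul] at this
  have g02 : ∀ x ∈ K, Root Q (x • ev 0) (ev 2) := fun x hx => by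
    have h' : Root P ((φ ⬝ᵥ w)⁻¹ • w) ρ := by
      have := g12 1 K.one_mem
      rwa [tr, hw', one_smul] at this
    rw [tr, hv']
    have := h'.second_centre ((hKv x).2 hx) (by simp [dotProduct_smul, rρ.1])
    rwa [dotProduct_smul, smul_eq_mul, inv_mul_cancel₀ hφw, one_smul] at this
  obtain ⟨u, ω, -, hω, hu, hρu⟩ := exists_centre hirr hv hφ r1 hρ
  have huQ := root_of_inBasis (B := B).1 hu
  have hall := all_of_two_axes h2 hirrQ g01 g10 g02 g12 huQ
    (by rw [hBi, hCval]; exact hρu)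
    (fun e => hω (by
      have := congrArg (fun z => z ᵥ* ((B⁻¹ : GL (Fin 3) F) : Matrix (Fin 3) (Fin 3) F)) e
      simpa [Matrix.vecMul_vecMul] using this))
  by_cases hKtop : K = ⊤
  · left
    refine le_antisymm h.le_sl fun g hg => ?_
    have hQ : specialLinear (Fin 3) F ≤ Q :=
      (Cfsg.Agent.Classical.specialLinear_le_iff Q).2 fun i j hij c =>
        root_to_mem ((hall i j hij c).2 (hKtop ▸ Subfield.mem_top c)) (by
          rw [Cfsg.Agent.Classical.transGL_coe]
          rw [tv, Matrix.transvection, Matrix.smul_vecMulVec,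
            ← Matrix.single_eq_single_vecMulVec_single, Matrix.smul_single, smul_eq_mul, mul_one])
    have hm : B⁻¹ * g * B ∈ specialLinear (Fin 3) F := by
      rw [specialLinear, MonoidHom.mem_ker] at hg ⊢
      rw [map_mul, map_mul, hg, mul_one, map_inv, inv_mul_cancel]
    have := hQ hm
    rwa [mem_inBasis, ← mul_assoc, ← mul_assoc, mul_inv_cancel, one_mul, mul_assoc, mul_inv_cancel,
      mul_one] at this
  · right
    obtain ⟨τ, -, hτ⟩ := exists_fix_pow K
    refine ⟨τ, fun e => hKtop (eq_top_iff.2 fun x _ => (hτ x).1 (by rw [e]; rfl)),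
      twist_of_rat h hv hφ r1 B τ fun a b _ _ hab i j => (hτ _).2 ?_⟩
    exact rat_of_all h2 hirrQ hall ((root_of_inBasis (B := B)).1 hab) i j

end Cfsg.Agent.PThree
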