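import Cfsg.Agent.Lib.Classical.PThree.TransOdd.Root
import Cfsg.Agent.S0801

/-!
# Dickson's theorem for two opposite transvections

For opposite transvections `(c v, φ)`, `(d w, ψ)` with `λ = c d φ(w) ψ(v)`, the group contains all
multiples by the field generated by `λ`, except when that field has nine elements and `λ² = -1`;
in both cases it contains the involution negating the plane of `v` and `w`.
-/

set_option autoImplicit false
set_option linter.unusedSectionVars false
set_option linter.style.haveILetI false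

namespace Cfsg.Agent.PThree

open Matrix Cfsg Cfsg.Geo
open Cfsg.Agent.Small.Generation
open Cfsg.Agent.Classical.TransRoot (plane plane_coe plane_upper plane_lower planeJ planeP)

variable {F : Type*} [Field F] [Fintype F] {P : Subgroup (GL (Fin 3) F)}

theorem upper_eq {L : Type*} [Field L] (a : L) :
    ((Matrix.SpecialLinearGroup.transvection (show (0 : Fin 2) ≠ 1 by decide) a :
      Matrix.SpecialLinearGroup (Fin 2) L) : Matrix (Fin 2) (Fin 2) L) = !![1, a; 0, 1] := by
  show (1 : Matrix (Fin 2) (Fin 2) L) + Matrix.single 0 1 a = _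
  ext i j; fin_cases i <;> fin_cases j <;> simp

theorem lower_eq {L : Type*} [Field L] (a : L) :
    ((Matrix.SpecialLinearGroup.transvection (show (1 : Fin 2) ≠ 0 by decide) a :
      Matrix.SpecialLinearGroup (Fin 2) L) : Matrix (Fin 2) (Fin 2) L) = !![1, 0; a, 1] := by
  show (1 : Matrix (Fin 2) (Fin 2) L) + Matrix.single 1 0 a = _
  ext i j; fin_cases i <;> fin_cases j <;> simp

theorem map_upper {L : Type*} [Field L] (f : L →+* F) (a : L) :
    Matrix.SpecialLinearGroup.map f (Matrix.SpecialLinearGroup.transvection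
      (show (0 : Fin 2) ≠ 1 by decide) a) =
      Matrix.SpecialLinearGroup.transvection (show (0 : Fin 2) ≠ 1 by decide) (f a) := by
  refine Subtype.ext ?_
  show (Matrix.SpecialLinearGroup.transvection (show (0 : Fin 2) ≠ 1 by decide) a).1.map f = _
  rw [upper_eq, upper_eq]
  ext i j; fin_cases i <;> fin_cases j <;> simp

theorem map_lower {L : Type*} [Field L] (f : L →+* F) (a : L) :
    Matrix.SpecialLinearGroup.map f (Matrix.SpecialLinearGroup.transvection
      (show (1 : Fin 2) ≠ 0 by decide) a) =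
      Matrix.SpecialLinearGroup.transvection (show (1 : Fin 2) ≠ 0 by decide) (f a) := by
  refine Subtype.ext ?_
  show (Matrix.SpecialLinearGroup.transvection (show (1 : Fin 2) ≠ 0 by decide) a).1.map f = _
  rw [lower_eq, lower_eq]
  ext i j; fin_cases i <;> fin_cases j <;> simp

/-- In `SL₂` of odd characteristic the only involution is `-1`. -/
theorem invol_eq_neg {L : Type*} [Field L] (h2 : (2 : L) ≠ 0)
    {z : Matrix.SpecialLinearGroup (Fin 2) L} (hz : z ^ 2 = 1) (hz1 : z ≠ 1) :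
    (z : Matrix (Fin 2) (Fin 2) L) = -1 := by
  have hd := z.2
  rw [Matrix.det_fin_two] at hd
  have hm : z.1 * z.1 = 1 := by
    rw [← Matrix.SpecialLinearGroup.coe_mul, ← sq, hz]; rfl
  set a := z.1 0 0 with ha
  set b := z.1 0 1 with hb
  set c := z.1 1 0 with hc
  set d := z.1 1 1 with hdd
  have e00 : a * a + b * c = 1 := by
    simpa [Matrix.mul_apply, Fin.sum_univ_two] using congrFun (congrFun hm 0) 0
  have e01 : a * b + b * d = 0 := by
    simpa [Matrix.mul_apply, Fin.sum_univ_two] using congrFun (congrFun hm 0) 1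
  have e10 : c * a + d * c = 0 := by
    simpa [Matrix.mul_apply, Fin.sum_univ_two] using congrFun (congrFun hm 1) 0
  have e11 : c * b + d * d = 1 := by
    simpa [Matrix.mul_apply, Fin.sum_univ_two] using congrFun (congrFun hm 1) 1
  have hs : (a + d) * (a + d) = 2 * 2 := by linear_combination e00 + e11 + 2 * hd
  have hs0 : a + d ≠ 0 := fun h => by
    rw [h, mul_zero] at hs
    exact mul_ne_zero h2 h2 hs.symm
  have hb0 : b = 0 := (mul_eq_zero.1 (show b * (a + d) = 0 by linear_combination e01)).resolve_right hs0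
  have hc0 : c = 0 := (mul_eq_zero.1 (show c * (a + d) = 0 by linear_combination e10)).resolve_right hs0
  have had : a = d := by
    have : a * (a - d) = 0 := by
      linear_combination e00 - hd - 2 * c * hb0
    exact sub_eq_zero.1 ((mul_eq_zero.1 this).resolve_left fun h => by
      rw [h, hb0] at e00; simp at e00)
  have ha1 : a = -1 := by
    rcases mul_self_eq_one_iff.1 (show a * a = 1 by linear_combination e00 - c * hb0) with h | h
    · refine absurd (Subtype.ext ?_) hz1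
      rw [Matrix.eta_fin_two z.1]
      show !![a, b; c, d] = (1 : Matrix (Fin 2) (Fin 2) L)
      rw [← had, h, hb0, hc0, Matrix.one_fin_two]
    · exact h
  rw [Matrix.eta_fin_two z.1]
  show !![a, b; c, d] = (-1 : Matrix (Fin 2) (Fin 2) L)
  rw [← had, ha1, hb0, hc0, Matrix.one_fin_two]
  simp

/-- Dickson's theorem for two opposite transvections of `P`. -/
theorem dickson (h2 : (2 : F) ≠ 0) {v φ w ψ : Fin 3 → F} {c d : F}
    (hc : Root P (c • v) φ) (hd : Root P (d • w) ψ) (hv0 : φ ⬝ᵥ v = 0) (hw0 : ψ ⬝ᵥ w = 0)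
    (hc0 : c ≠ 0) (hd0 : d ≠ 0) (hφw : φ ⬝ᵥ w ≠ 0) (hψv : ψ ⬝ᵥ v ≠ 0) :
    ((∀ x ∈ Subfield.closure ({c * d * (φ ⬝ᵥ w) * (ψ ⬝ᵥ v)} : Set F), Root P ((x * c) • v) φ) ∨
      (Nat.card (Subfield.closure ({c * d * (φ ⬝ᵥ w) * (ψ ⬝ᵥ v)} : Set F)) = 9 ∧
        (c * d * (φ ⬝ᵥ w) * (ψ ⬝ᵥ v)) ^ 2 = -1)) ∧
    ∃ J ∈ P, ∀ x : Fin 3 → F, (J : Matrix (Fin 3) (Fin 3) F) *ᵥ x =
      x - (2 * ((ψ ⬝ᵥ x) / (ψ ⬝ᵥ v))) • v - (2 * ((φ ⬝ᵥ x) / (φ ⬝ᵥ w))) • w := by
  classical
  set r : F := c * d * (φ ⬝ᵥ w) * (ψ ⬝ᵥ v) with hr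
  set L : Subfield F := Subfield.closure ({r} : Set F) with hL
  have hr0 : r ≠ 0 := mul_ne_zero (mul_ne_zero (mul_ne_zero hc0 hd0) hφw) hψv
  set y : Fin 3 → F := (d * (ψ ⬝ᵥ v)) • w with hy
  have hB : ψ ⬝ᵥ y = 0 := by rw [hy, dotProduct_smul, hw0, smul_zero]
  have h1 : φ ⬝ᵥ y ≠ 0 := by
    rw [hy, dotProduct_smul, smul_eq_mul]; exact mul_ne_zero (mul_ne_zero hd0 hψv) hφw
  let Φ : Matrix.SpecialLinearGroup (Fin 2) L →* GL (Fin 3) F :=
    (Matrix.SpecialLinearGroup.toGL.comp (plane v φ y ψ hv0 hB h1 hψv)).comp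
      (Matrix.SpecialLinearGroup.map L.subtype)
  have hup : ∀ a : L, ((Φ (Matrix.SpecialLinearGroup.transvection (show (0 : Fin 2) ≠ 1 by decide) a)) :
      Matrix (Fin 3) (Fin 3) F) = tv (((a : F) / (φ ⬝ᵥ y)) • v) φ := fun a => by
    show ((plane v φ y ψ hv0 hB h1 hψv (Matrix.SpecialLinearGroup.map L.subtype _)).1) = _
    rw [map_upper, plane_upper]
    rfl
  have hlo : ∀ a : L, ((Φ (Matrix.SpecialLinearGroup.transvection (show (1 : Fin 2) ≠ 0 by decide) a)) :
      Matrix (Fin 3) (Fin 3) F) = tv (((a : F) / (ψ ⬝ᵥ v)) • y) ψ := fun a => by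
    show ((plane v φ y ψ hv0 hB h1 hψv (Matrix.SpecialLinearGroup.map L.subtype _)).1) = _
    rw [map_lower, plane_lower]
    rfl
  have hrL : r ∈ L := Subfield.subset_closure (Set.mem_singleton r)
  let lam : L := ⟨r, hrL⟩
  have hy' : φ ⬝ᵥ y = d * (ψ ⬝ᵥ v) * (φ ⬝ᵥ w) := by rw [hy, dotProduct_smul, smul_eq_mul]
  have hgen : Subfield.closure ({lam} : Set L) = ⊤ := by
    refine top_unique fun z _ => ?_
    have hm : Subfield.closure ({r} : Set F) ≤ (Subfield.closure ({lam} : Set L)).map L.subtype :=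
      Subfield.closure_le.2 (Set.singleton_subset_iff.2 ⟨lam, Subfield.subset_closure rfl, rfl⟩)
    obtain ⟨u, hu, hue⟩ := hm z.2
    rwa [show u = z from Subtype.ext hue] at hu
  have h2L : (2 : L) ≠ 0 := fun h =>
    h2 ((map_ofNat L.subtype 2).symm.trans ((congrArg L.subtype h).trans (map_zero _)))
  let T := Subgroup.closure {g : Matrix.SpecialLinearGroup (Fin 2) L |
    (g : Matrix (Fin 2) (Fin 2) L) = !![1, 0; 1, 1] ∨ (g : Matrix (Fin 2) (Fin 2) L) = !![1, lam; 0, 1]}
  have hT : T ≤ P.comap Φ := by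
    refine (Subgroup.closure_le _).2 ?_
    rintro g (hg | hg)
    · rw [show g = Matrix.SpecialLinearGroup.transvection (show (1 : Fin 2) ≠ 0 by decide) (1 : L) from
        Subtype.ext (hg.trans (lower_eq 1).symm)]
      refine root_to_mem hd ?_
      rw [hlo, hy, smul_smul]
      congr 2
      simp [field]
    · rw [show g = Matrix.SpecialLinearGroup.transvection (show (0 : Fin 2) ≠ 1 by decide) lam from
        Subtype.ext (hg.trans (upper_eq lam).symm)]
      refine root_to_mem hc ?_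
      rw [hup, hy']
      congr 2
      show r / _ = c
      rw [hr]; field_simp
  have hJ : ∀ z ∈ T, (z : Matrix (Fin 2) (Fin 2) L) = -1 → ∃ J ∈ P, ∀ x : Fin 3 → F,
      (J : Matrix (Fin 3) (Fin 3) F) *ᵥ x =
        x - (2 * ((ψ ⬝ᵥ x) / (ψ ⬝ᵥ v))) • v - (2 * ((φ ⬝ᵥ x) / (φ ⬝ᵥ w))) • w := by
    intro z hz hz1
    refine ⟨Φ z, hT hz, fun x => ?_⟩
    show ((plane v φ y ψ hv0 hB h1 hψv (Matrix.SpecialLinearGroup.map L.subtype z)).1) *ᵥ x = _
    rw [plane_coe, show ((Matrix.SpecialLinearGroup.map L.subtype z).1) = (-1 : Matrix (Fin 2) (Fin 2) F) by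
      show z.1.map L.subtype = -1
      rw [hz1]
      ext i j; fin_cases i <;> fin_cases j <;> simp]
    have hP : planeP v φ y ψ *ᵥ x = ![(ψ ⬝ᵥ v)⁻¹ * (ψ ⬝ᵥ x), (φ ⬝ᵥ y)⁻¹ * (φ ⬝ᵥ x)] := by
      funext i
      fin_cases i
      · exact smul_dotProduct (ψ ⬝ᵥ v)⁻¹ ψ x
      · exact smul_dotProduct (φ ⬝ᵥ y)⁻¹ φ x
    have hJ' : ∀ s t : F, planeJ v y *ᵥ ![s, t] = s • v + t • y := fun s t => by
      funext k
      simp [planeJ, Matrix.mulVec, dotProduct, Fin.sum_univ_two, mul_comm]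
    rw [show ((-1 : Matrix (Fin 2) (Fin 2) F) - 1) = (-2 : F) • 1 by module, Matrix.mul_smul,
      Matrix.mul_one, Matrix.smul_mul, Matrix.add_mulVec, Matrix.one_mulVec, Matrix.smul_mulVec,
      ← Matrix.mulVec_mulVec, hP, hJ', hy', hy]
    match_scalars <;> field
  obtain ⟨hcl, -⟩ | ⟨h9, hsq, hcard⟩ := Cfsg.Agent.S0801.result h2L lam
    (fun h => hr0 (congrArg L.subtype h)) hgen
  · have hall : ∀ g, Φ g ∈ P := fun g => hT (by
      show g ∈ T
      rw [show T = ⊤ from hcl]; trivial)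
    refine ⟨Or.inl fun x hx => ⟨by rw [dotProduct_smul, hv0, smul_zero],
      _, hall (Matrix.SpecialLinearGroup.transvection (show (0 : Fin 2) ≠ 1 by decide)
        (⟨x, hx⟩ * lam : L)), ?_⟩, hJ (-1) (by rw [show T = ⊤ from hcl]; trivial) (by simp)⟩
    rw [hup, hy']
    congr 2
    show x * r / _ = x * c
    rw [hr]; field_simp
  · refine ⟨Or.inr ⟨by rw [Nat.card_eq_fintype_card]; exact h9, ?_⟩, ?_⟩
    · exact congrArg L.subtype hsq
    · haveI : Fact (Nat.Prime 2) := ⟨Nat.prime_two⟩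
      obtain ⟨z, hz⟩ := exists_prime_orderOf_dvd_card' (G := T) 2 (by rw [hcard]; norm_num)
      refine hJ z.1 z.2 (invol_eq_neg h2L ?_ fun h => ?_)
      · rw [← Subgroup.coe_pow, orderOf_dvd_iff_pow_eq_one.1 (dvd_of_eq hz), Subgroup.coe_one]
      · rw [show z = 1 from Subtype.ext h, orderOf_one] at hz
        omega

end Cfsg.Agent.PThree
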