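import Cfsg.Agent.Lib.Classical.PThree.TransOdd.Dickson

/-!
# The exceptional pair does not occur

In characteristic three two opposite transvections might generate `SL₂(5)` inside `SL₂(9)`.  The
values `c d φ(w) ψ(v)` against the conjugates in the plane force every third transvection to have
centre in the plane or axis through its complement, and then the involution of the plane produces
pure transvections whose products fill a line over nine elements.
-/

set_option autoImplicit false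
set_option linter.unusedSectionVars false
set_option linter.style.haveILetI false

namespace Cfsg.Agent.PThree

open Matrix Cfsg Cfsg.Geo
open Cfsg.Agent.Small.Generation

variable {F : Type*} [Field F] [Fintype F] {P : Subgroup (GL (Fin 3) F)}

/-- Lying in some subfield of odd degree over the prime field with three elements. -/
def OddDeg (x : F) : Prop := ∃ d : ℕ, Odd d ∧ x ^ (3 ^ d) = x

theorem pow_three_mul {x : F} {d : ℕ} (h : x ^ (3 ^ d) = x) (k : ℕ) : x ^ (3 ^ (d * k)) = x := by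
  induction k with
  | zero => simp
  | succ k ih => rw [Nat.mul_succ, pow_add, pow_mul, ih, h]

theorem oddDeg_common {x y : F} (hx : OddDeg x) (hy : OddDeg y) :
    ∃ d : ℕ, Odd d ∧ x ^ (3 ^ d) = x ∧ y ^ (3 ^ d) = y := by
  obtain ⟨a, ha, hxa⟩ := hx
  obtain ⟨b, hb, hyb⟩ := hy
  exact ⟨a * b, ha.mul hb, pow_three_mul hxa b, by rw [mul_comm a]; exact pow_three_mul hyb a⟩

section Arith

variable {l : F} (h3 : (3 : F) = 0) (hl : l * l = -1)

include h3

theorem charP_three : CharP F 3 := by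
  haveI := ringChar.charP F
  have hp : (ringChar F).Prime := CharP.char_is_prime F (ringChar F)
  have hd : ringChar F ∣ 3 := (CharP.cast_eq_zero_iff F (ringChar F) 3).1 (by exact_mod_cast h3)
  rwa [← (Nat.prime_dvd_prime_iff_eq hp Nat.prime_three).1 hd]

theorem two_ne_zero_three : (2 : F) ≠ 0 := fun h => one_ne_zero
  (show (1 : F) = 0 by linear_combination h3 - h)

theorem oddDeg_add {x y : F} (hx : OddDeg x) (hy : OddDeg y) : OddDeg (x + y) := by
  haveI := charP_three h3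
  haveI : Fact (Nat.Prime 3) := ⟨Nat.prime_three⟩
  obtain ⟨d, hd, h1, h2⟩ := oddDeg_common hx hy
  exact ⟨d, hd, by rw [add_pow_char_pow, h1, h2]⟩

theorem oddDeg_neg {x : F} (hx : OddDeg x) : OddDeg (-x) := by
  obtain ⟨d, hd, h1⟩ := hx
  exact ⟨d, hd, by rw [Odd.neg_pow (Odd.pow (by decide)), h1]⟩

theorem oddDeg_zero : OddDeg (0 : F) := ⟨1, odd_one, by simp⟩

theorem oddDeg_one : OddDeg (1 : F) := ⟨1, odd_one, by simp⟩

theorem oddDeg_cast (n : ℕ) : OddDeg (n : F) := by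
  induction n with
  | zero => rw [Nat.cast_zero]; exact oddDeg_zero h3
  | succ n ih => rw [Nat.cast_succ]; exact oddDeg_add h3 ih (oddDeg_one h3)

theorem oddDeg_div {x y : F} (hx : OddDeg x) (hy : OddDeg y) : OddDeg (x / y) := by
  obtain ⟨d, hd, h1, h2⟩ := oddDeg_common hx hy
  exact ⟨d, hd, by rw [div_pow, h1, h2]⟩

include hl

theorem not_oddDeg_root : ¬ OddDeg l := by
  rintro ⟨d, hd, h⟩
  obtain ⟨e, rfl⟩ := hd
  have h4 : ∃ k, 3 ^ (2 * e + 1) = 4 * k + 3 := by
    refine ⟨3 ^ (2 * e + 1) / 4, ?_⟩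
    have : 3 ^ (2 * e + 1) % 4 = 3 := by
      rw [pow_succ, pow_mul, Nat.mul_mod, Nat.pow_mod]
      simp
    omega
  obtain ⟨k, hk⟩ := h4
  rw [hk, pow_add, show l ^ (4 * k) = ((l * l) * (l * l)) ^ k by rw [pow_mul]; ring, hl] at h
  simp only [mul_neg, neg_mul, one_mul, neg_neg, one_pow] at h
  rw [show l ^ 3 = -l by linear_combination l * hl] at h
  have hl0 : l ≠ 0 := fun e => by rw [e, mul_zero] at hl; exact one_ne_zero (neg_eq_zero.1 hl.symm)
  exact hl0 ((mul_eq_zero.1 (show (2 : F) * l = 0 by linear_combination -h)).resolve_left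
    (two_ne_zero_three h3))

/-- A sum of an odd-degree element and a multiple of `l` closed under `l` lies in `F₉`. -/
theorem small_of_mem {x : F} (hx : ∃ k, ∃ n : ℕ, OddDeg k ∧ x = k + (n : F) * l)
    (hlx : ∃ k, ∃ n : ℕ, OddDeg k ∧ l * x = k + (n : F) * l) :
    ∃ i j : ℕ, x = (i : F) + (j : F) * l := by
  obtain ⟨k, m, hk, hx⟩ := hx
  obtain ⟨k', m', hk', hx'⟩ := hlx
  refine ⟨m', m, ?_⟩
  have e : l * (k - (m' : F)) = k' + (m : F) := by
    rw [hx] at hx'; linear_combination hx' - (m : F) * hl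
  by_cases h0 : k - (m' : F) = 0
  · rw [hx, sub_eq_zero.1 h0]
  · refine absurd ?_ (not_oddDeg_root h3 hl)
    have hl' : l = (k' + (m : F)) / (k + -(m' : F)) := by
      rw [← sub_eq_add_neg, eq_div_iff h0, e]
    rw [hl']
    exact oddDeg_div h3 (oddDeg_add h3 hk' (oddDeg_cast h3 m))
      (oddDeg_add h3 hk (oddDeg_neg h3 (oddDeg_cast h3 m')))

/-- The allowed values. -/
def InS (l x : F) : Prop := OddDeg x ∨ x = l ∨ x = -l

omit h3 hl in
theorem inS_neg {x : F} (h : InS l x) (h3 : (3 : F) = 0) : InS l (-x) := by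
  rcases h with h | h | h
  · exact Or.inl (oddDeg_neg h3 h)
  · exact Or.inr (Or.inr (by rw [h]))
  · exact Or.inr (Or.inl (by rw [h, neg_neg]))

theorem inS_sq {x : ZMod 3 × ZMod 3} :
    letI := charP_three h3
    InS l (ZMod.castHom (dvd_refl 3) F x.1 + ZMod.castHom (dvd_refl 3) F x.2 * l) →
      x.1 = 0 ∨ x.2 = 0 := by
  haveI := charP_three h3
  intro h
  set f := ZMod.castHom (dvd_refl 3) F
  have hf : ∀ a : ZMod 3, OddDeg (f a) := fun a => by
    rw [← ZMod.natCast_zmod_val a, map_natCast]; exact oddDeg_cast h3 _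
  have hinj : Function.Injective f := f.injective
  by_cases h2 : x.2 = 0
  · exact Or.inr h2
  refine Or.inl ?_
  have hb : f x.2 ≠ 0 := fun e => h2 (hinj (e.trans (map_zero f).symm))
  rcases h with h | h | h
  · refine absurd ?_ (not_oddDeg_root h3 hl)
    have : l = (f x.1 + f x.2 * l + -(f x.1)) / f x.2 := by field_simp; ring
    rw [this]
    exact oddDeg_div h3 (oddDeg_add h3 h (oddDeg_neg h3 (hf _))) (hf _)
  · by_cases he : f x.2 - 1 = 0
    · exact hinj ((show f x.1 = 0 by linear_combination h - l * he).trans (map_zero f).symm)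
    · refine absurd ?_ (not_oddDeg_root h3 hl)
      have : l = -(f x.1) / (f x.2 + -1) := by
        rw [← sub_eq_add_neg, eq_div_iff he]; linear_combination h
      rw [this]
      exact oddDeg_div h3 (oddDeg_neg h3 (hf _)) (oddDeg_add h3 (hf _) (oddDeg_neg h3 (oddDeg_one h3)))
  · by_cases he : f x.2 + 1 = 0
    · exact hinj ((show f x.1 = 0 by linear_combination h - l * he).trans (map_zero f).symm)
    · refine absurd ?_ (not_oddDeg_root h3 hl)
      have : l = -(f x.1) / (f x.2 + 1) := by rw [eq_div_iff he]; linear_combination h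
      rw [this]
      exact oddDeg_div h3 (oddDeg_neg h3 (hf _)) (oddDeg_add h3 (hf _) (oddDeg_one h3))

end Arith

/-- Multiplication of `F₉` on pairs. -/
def emul (x y : ZMod 3 × ZMod 3) : ZMod 3 × ZMod 3 :=
  (x.1 * y.1 - x.2 * y.2, x.1 * y.2 + x.2 * y.1)

/-- A pair with a square value. -/
abbrev Sqr (x : ZMod 3 × ZMod 3) : Prop := x.1 = 0 ∨ x.2 = 0

set_option synthInstance.maxSize 4000 in
set_option synthInstance.maxHeartbeats 200000 in
set_option maxRecDepth 20000 in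
/-- A binary form over `F₉` with square values at eight of the points is degenerate. -/
theorem form_table : ∀ a : ZMod 3 × ZMod 3, Sqr a → ∀ c : ZMod 3 × ZMod 3, Sqr (emul (0, 1) c) →
    ∀ b : ZMod 3 × ZMod 3, Sqr (a + b + c) → Sqr (a - b + c) →
      Sqr (emul (0, 2) a + emul (1, 1) b + c) → Sqr (emul (0, 2) a - emul (1, 1) b + c) →
      Sqr (emul (0, 1) a + emul (1, 2) b + c) → Sqr (emul (0, 1) a - emul (1, 2) b + c) →
      emul b b - emul a c = 0 := by decide +kernel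

/-- A normalised exceptional pair. -/
structure Exc (P : Subgroup (GL (Fin 3) F)) (l : F) where
  v : Fin 3 → F
  y : Fin 3 → F
  φ : Fin 3 → F
  ψ : Fin 3 → F
  φv : φ ⬝ᵥ v = 0
  φy : φ ⬝ᵥ y = 1
  ψv : ψ ⬝ᵥ v = 1
  ψy : ψ ⬝ᵥ y = 0
  U : Root P (l • v) φ
  L : Root P y ψ
  no : ¬ Root P ((l * l) • v) φ
  no' : ¬ Root P (l • y) ψ
  three : (3 : F) = 0
  sq : l * l = -1
  J : ∃ J ∈ P, ∀ x : Fin 3 → F,
    (J : Matrix (Fin 3) (Fin 3) F) *ᵥ x = x - (2 * (ψ ⬝ᵥ x)) • v - (2 * (φ ⬝ᵥ x)) • y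

variable {l : F} (D : Exc P l)
include D

theorem Exc.two : (2 : F) ≠ 0 := two_ne_zero_three D.three

theorem Exc.moveU {s : F} (hs : Root P (s • D.v) D.φ) {k α β : F}
    (h : Root P (k • (α • D.v + β • D.y)) (α • D.φ - β • D.ψ)) :
    Root P (k • ((α + s * β) • D.v + β • D.y)) ((α + s * β) • D.φ - β • D.ψ) := by
  have h1 := h.conj_root hs
  simp only [dotProduct_smul, dotProduct_add, smul_eq_mul, sub_dotProduct, smul_dotProduct,
    D.φv, D.φy, D.ψv] at h1
  convert h1 using 1 <;> module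

theorem Exc.moveL {s : F} (hs : Root P (s • D.y) D.ψ) {k α β : F}
    (h : Root P (k • (α • D.v + β • D.y)) (α • D.φ - β • D.ψ)) :
    Root P (k • (α • D.v + (β + s * α) • D.y)) (α • D.φ - (β + s * α) • D.ψ) := by
  have h1 := h.conj_root hs
  simp only [dotProduct_smul, dotProduct_add, smul_eq_mul, sub_dotProduct, smul_dotProduct,
    D.φy, D.ψv, D.ψy] at h1
  convert h1 using 1 <;> module

/-- A point of the plane: the scalar `k` is present and `l * k` is not. -/
def Exc.Pt (k α β : F) : Prop :=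
  Root P (k • (α • D.v + β • D.y)) (α • D.φ - β • D.ψ) ∧
    ¬ Root P ((l * k) • (α • D.v + β • D.y)) (α • D.φ - β • D.ψ)

theorem Exc.pt_one : D.Pt l 1 0 := by
  constructor
  · simpa using D.U
  · simpa using D.no

theorem Exc.pt_two : D.Pt (-1) 0 1 := by
  constructor
  · simpa using D.L.neg.neg_right
  · intro h
    refine D.no' ?_
    have := h.neg.neg_right
    simpa using this

theorem Exc.ptU {s : F} (hs : Root P (s • D.v) D.φ) {k α β : F} (h : D.Pt k α β) :
    D.Pt k (α + s * β) β := by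
  refine ⟨D.moveU hs h.1, fun h' => h.2 ?_⟩
  have hs' : Root P ((-s) • D.v) D.φ := by rw [neg_smul]; exact hs.neg
  have := D.moveU hs' h'
  rwa [show α + s * β + -s * β = α by ring] at this

theorem Exc.ptL {s : F} (hs : Root P (s • D.y) D.ψ) {k α β : F} (h : D.Pt k α β) :
    D.Pt k α (β + s * α) := by
  refine ⟨D.moveL hs h.1, fun h' => h.2 ?_⟩
  have hs' : Root P ((-s) • D.y) D.ψ := by rw [neg_smul]; exact hs.neg
  have := D.moveL hs' h'
  rwa [show β + s * α + -s * α = β by ring] at this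

theorem Exc.value {k α β : F} (hp : D.Pt k α β) {u ω : Fin 3 → F} (hu : Root P u ω) :
    InS l (k * ((α * (D.φ ⬝ᵥ u) - β * (D.ψ ⬝ᵥ u)) * (α * (ω ⬝ᵥ D.v) + β * (ω ⬝ᵥ D.y)))) := by
  classical
  have h3 := D.three
  set p := α • D.v + β • D.y with hpdef
  set π := α • D.φ - β • D.ψ with hπdef
  have hπu : π ⬝ᵥ u = α * (D.φ ⬝ᵥ u) - β * (D.ψ ⬝ᵥ u) := by
    simp only [hπdef, sub_dotProduct, smul_dotProduct, smul_eq_mul]
  have hωp : ω ⬝ᵥ p = α * (ω ⬝ᵥ D.v) + β * (ω ⬝ᵥ D.y) := by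
    simp only [hpdef, dotProduct_add, dotProduct_smul, smul_eq_mul]
  rw [← hπu, ← hωp]
  by_cases h0 : k * ((π ⬝ᵥ u) * (ω ⬝ᵥ p)) = 0
  · rw [h0]; exact Or.inl (oddDeg_zero h3)
  obtain ⟨hk0, hu0, hp0⟩ : k ≠ 0 ∧ π ⬝ᵥ u ≠ 0 ∧ ω ⬝ᵥ p ≠ 0 := by
    refine ⟨fun e => h0 ?_, fun e => h0 ?_, fun e => h0 ?_⟩ <;> rw [e] <;> ring
  have hπp : π ⬝ᵥ p = 0 := by
    simp only [hπdef, hpdef, sub_dotProduct, smul_dotProduct, dotProduct_add, dotProduct_smul,
      smul_eq_mul, D.φv, D.φy, D.ψv, D.ψy]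
    ring
  obtain ⟨hcase, -⟩ := dickson D.two hp.1 (by rw [one_smul]; exact hu) hπp hu.1 hk0 one_ne_zero hu0 hp0
  rw [show k * 1 * (π ⬝ᵥ u) * (ω ⬝ᵥ p) = k * ((π ⬝ᵥ u) * (ω ⬝ᵥ p)) by ring] at hcase
  set r := k * ((π ⬝ᵥ u) * (ω ⬝ᵥ p))
  rcases hcase with hall | ⟨-, hsq⟩
  · refine Or.inl ?_
    set L' := Subfield.closure ({r} : Set F)
    have hl : l ∉ L' := fun h => hp.2 (hall l h)
    have hr : r ∈ L' := Subfield.subset_closure rfl
    haveI := charP_three h3
    obtain ⟨d, -, hd⟩ := FiniteField.card L' 3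
    refine ⟨d, ?_, ?_⟩
    · by_contra hodd
      obtain ⟨e, he⟩ := Nat.not_odd_iff_even.1 hodd
      have hs : IsSquare (-1 : L') := FiniteField.isSquare_neg_one_iff.2 (by
        rw [hd, he, ← two_mul, pow_mul, Nat.pow_mod]
        simp)
      obtain ⟨s, hs⟩ := hs
      have hs' : (s : F) * (s : F) = l * l := by
        rw [D.sq]
        exact (congrArg L'.subtype hs).symm.trans (by simp)
      rcases mul_self_eq_mul_self_iff.1 hs' with e1 | e1
      · exact hl (e1 ▸ s.2)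
      · exact hl (by rw [show l = -(s : F) by rw [e1, neg_neg]]; exact L'.neg_mem s.2)
    · have := congrArg L'.subtype (FiniteField.pow_card (⟨r, hr⟩ : L'))
      rw [hd] at this
      simpa using this
  · refine Or.inr (mul_self_eq_mul_self_iff.1 ?_)
    rw [D.sq, ← hsq]; ring

theorem Exc.degenerate {u ω : Fin 3 → F} (hu : Root P u ω) :
    (D.ψ ⬝ᵥ u) * (ω ⬝ᵥ D.v) + (D.φ ⬝ᵥ u) * (ω ⬝ᵥ D.y) = 0 := by
  have h3 := D.three
  have hl := D.sq
  haveI := charP_three h3
  have hL : Root P ((1 : F) • D.y) D.ψ := by rw [one_smul]; exact D.L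
  have hL' : Root P ((-1 : F) • D.y) D.ψ := by rw [neg_one_smul]; exact D.L.neg
  have hU' : Root P ((-l) • D.v) D.φ := by rw [neg_smul]; exact D.U.neg
  set A := (D.φ ⬝ᵥ u) * (ω ⬝ᵥ D.v) with hA
  set B := (D.φ ⬝ᵥ u) * (ω ⬝ᵥ D.y) - (D.ψ ⬝ᵥ u) * (ω ⬝ᵥ D.v) with hB
  set C := -((D.ψ ⬝ᵥ u) * (ω ⬝ᵥ D.y)) with hC
  set a := l * A with ha
  set b := l * B with hb
  set c := l * C with hc
  have two : (2 : F) = -1 := by linear_combination h3
  have v1 : InS l a := by
    have := D.value D.pt_one hu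
    convert this using 1; rw [ha, hA]; ring
  have v2 : InS l (a + b + c) := by
    have := D.value (D.ptL hL D.pt_one) hu
    convert this using 1; rw [ha, hb, hc, hA, hB, hC]; ring
  have v3 : InS l (a - b + c) := by
    have := D.value (D.ptL hL' D.pt_one) hu
    convert this using 1; rw [ha, hb, hc, hA, hB, hC]; ring
  have v4 : InS l (l * c) := by
    have := D.value D.pt_two hu
    convert this using 1; rw [hc, hC]
    linear_combination -((D.ψ ⬝ᵥ u) * (ω ⬝ᵥ D.y)) * hl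
  have v5 : InS l (-(l * a) + (1 + l) * b + c) := by
    have := D.value (D.ptU D.U (D.ptL hL D.pt_one)) hu
    convert this using 1
    rw [ha, hb, hc, hA, hB, hC]
    linear_combination (-(l * ((D.φ ⬝ᵥ u) * (ω ⬝ᵥ D.v)))) * hl -
      l * l * ((D.φ ⬝ᵥ u) * (ω ⬝ᵥ D.v)) * h3
  have v6 : InS l (-(l * a) - (1 + l) * b + c) := by
    have := D.value (D.ptU hU' (D.ptL hL' D.pt_one)) hu
    convert this using 1
    rw [ha, hb, hc, hA, hB, hC]
    linear_combination (-(l * ((D.φ ⬝ᵥ u) * (ω ⬝ᵥ D.v)))) * hl -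
      l * l * ((D.φ ⬝ᵥ u) * (ω ⬝ᵥ D.v)) * h3
  have v7 : InS l (l * a + (1 - l) * b + c) := by
    have := D.value (D.ptU hU' (D.ptL hL D.pt_one)) hu
    convert this using 1
    rw [ha, hb, hc, hA, hB, hC]
    linear_combination (-(l * ((D.φ ⬝ᵥ u) * (ω ⬝ᵥ D.v)))) * hl +
      l * l * ((D.φ ⬝ᵥ u) * (ω ⬝ᵥ D.v)) * h3
  have v8 : InS l (l * a - (1 - l) * b + c) := by
    have := D.value (D.ptU D.U (D.ptL hL' D.pt_one)) hu
    convert this using 1
    rw [ha, hb, hc, hA, hB, hC]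
    linear_combination (-(l * ((D.φ ⬝ᵥ u) * (ω ⬝ᵥ D.v)))) * hl +
      l * l * ((D.φ ⬝ᵥ u) * (ω ⬝ᵥ D.v)) * h3
  -- the sums
  let G : AddSubgroup F :=
    { carrier := {x | ∃ k, ∃ n : ℕ, OddDeg k ∧ x = k + (n : F) * l}
      zero_mem' := ⟨0, 0, oddDeg_zero h3, by simp⟩
      add_mem' := by
        rintro x x' ⟨k, n, hk, rfl⟩ ⟨k', n', hk', rfl⟩
        exact ⟨k + k', n + n', oddDeg_add h3 hk hk', by push_cast; ring⟩
      neg_mem' := by
        rintro x ⟨k, n, hk, rfl⟩
        exact ⟨-k, 2 * n, oddDeg_neg h3 hk, by push_cast; linear_combination -(n : F) * l * h3⟩ }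
  have hSG : ∀ {x}, InS l x → x ∈ G := by
    rintro x (h | rfl | rfl)
    · exact ⟨x, 0, h, by simp⟩
    · exact ⟨0, 1, oddDeg_zero h3, by simp⟩
    · exact ⟨0, 2, oddDeg_zero h3, by push_cast; linear_combination -l * h3⟩
  have ga := hSG v1
  have glc := hSG v4
  have gb : b ∈ G := by
    have := G.sub_mem (hSG v3) (hSG v2)
    convert this using 1
    linear_combination b * h3
  have gc : c ∈ G := by
    have := G.sub_mem (G.sub_mem (hSG v2) ga) gb
    convert this using 1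
    ring
  have glb : l * b ∈ G := by
    have := G.sub_mem (G.sub_mem (hSG v6) (hSG v5)) gb
    convert this using 1
    linear_combination (b + l * b) * h3
  have gla : l * a ∈ G := by
    have := G.add_mem (G.add_mem (hSG v5) (hSG v6)) gc
    convert this using 1
    linear_combination (l * a - c) * h3
  obtain ⟨i₁, j₁, ea⟩ := small_of_mem h3 hl ga gla
  obtain ⟨i₂, j₂, eb⟩ := small_of_mem h3 hl gb glb
  obtain ⟨i₃, j₃, ec⟩ := small_of_mem h3 hl gc glc
  let ι : ZMod 3 × ZMod 3 → F := fun x =>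
    ZMod.castHom (dvd_refl 3) F x.1 + ZMod.castHom (dvd_refl 3) F x.2 * l
  have hadd : ∀ x x', ι (x + x') = ι x + ι x' := fun x x' => by
    simp only [ι, Prod.fst_add, Prod.snd_add, map_add]; ring
  have hsub : ∀ x x', ι (x - x') = ι x - ι x' := fun x x' => by
    simp only [ι, Prod.fst_sub, Prod.snd_sub, map_sub]; ring
  have hmul : ∀ x x', ι (emul x x') = ι x * ι x' := fun x x' => by
    simp only [ι, emul, map_sub, map_add, map_mul]
    linear_combination -(ZMod.castHom (dvd_refl 3) F x.2 * ZMod.castHom (dvd_refl 3) F x'.2) * hl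
  have hna : ∀ i j : ℕ, ι (i, j) = (i : F) + (j : F) * l := fun i j => by simp [ι]
  have hsq : ∀ x, InS l (ι x) → Sqr x := fun x => inS_sq h3 hl
  have k01 : ι (0, 1) = l := by simp [ι]
  have k02 : ι (0, 2) = -l := by
    simp only [ι, map_zero, map_ofNat]
    linear_combination l * h3
  have k11 : ι (1, 1) = 1 + l := by simp [ι]
  have k12 : ι (1, 2) = 1 - l := by
    simp only [ι, map_one, map_ofNat]
    linear_combination l * h3
  have ea' : ι (i₁, j₁) = a := (hna _ _).trans ea.symm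
  have eb' : ι (i₂, j₂) = b := (hna _ _).trans eb.symm
  have ec' : ι (i₃, j₃) = c := (hna _ _).trans ec.symm
  have hdisc := form_table (i₁, j₁) (hsq _ (by rw [ea']; exact v1))
    (i₃, j₃) (hsq _ (by rw [hmul, k01, ec']; exact v4))
    (i₂, j₂) (hsq _ (by rw [hadd, hadd, ea', eb', ec']; exact v2))
    (hsq _ (by rw [hadd, hsub, ea', eb', ec']; exact v3))
    (hsq _ (by rw [hadd, hadd, hmul, hmul, k02, k11, ea', eb', ec', neg_mul]; exact v5))
    (hsq _ (by rw [hadd, hsub, hmul, hmul, k02, k11, ea', eb', ec', neg_mul]; exact v6))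
    (hsq _ (by rw [hadd, hadd, hmul, hmul, k01, k12, ea', eb', ec']; exact v7))
    (hsq _ (by rw [hadd, hsub, hmul, hmul, k01, k12, ea', eb', ec']; exact v8))
  have h0 := congrArg ι hdisc
  rw [hsub, hmul, hmul, ea', eb', ec', show ι 0 = 0 by simp [ι]] at h0
  refine pow_eq_zero_iff (n := 2) two_ne_zero |>.1 ?_
  rw [ha, hb, hc, hA, hB, hC] at h0
  linear_combination -h0 + (((D.ψ ⬝ᵥ u) * (ω ⬝ᵥ D.v) + (D.φ ⬝ᵥ u) * (ω ⬝ᵥ D.y)) ^ 2 -
    ((D.ψ ⬝ᵥ u) * (ω ⬝ᵥ D.v) * (D.φ ⬝ᵥ u) * (ω ⬝ᵥ D.y))) * 0 +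
    (((D.φ ⬝ᵥ u) * (ω ⬝ᵥ D.y) - (D.ψ ⬝ᵥ u) * (ω ⬝ᵥ D.v)) ^ 2 +
      (D.φ ⬝ᵥ u) * (ω ⬝ᵥ D.v) * (D.ψ ⬝ᵥ u) * (ω ⬝ᵥ D.y)) * hl +
    (D.φ ⬝ᵥ u) * (ω ⬝ᵥ D.v) * (D.ψ ⬝ᵥ u) * (ω ⬝ᵥ D.y) * h3

omit D in
theorem exists_perp (a b : Fin 3 → F) : ∃ x : Fin 3 → F, x ≠ 0 ∧ a ⬝ᵥ x = 0 ∧ b ⬝ᵥ x = 0 := by
  let f : (Fin 3 → F) →ₗ[F] (Fin 2 → F) := Matrix.toLin' (Matrix.of ![a, b])
  have hk : LinearMap.ker f ≠ ⊥ := LinearMap.ker_ne_bot_of_finrank_lt (by simp)
  obtain ⟨x, hx, hx0⟩ := (Submodule.ne_bot_iff _).1 hk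
  rw [LinearMap.mem_ker, Matrix.toLin'_apply] at hx
  exact ⟨x, hx0, congrFun hx 0, congrFun hx 1⟩

theorem Exc.false (hirr : ActsIrreducibly (matrixSet P)) : False := by
  classical
  have h3 := D.three
  have hl := D.sq
  have h2 := D.two
  have hl0 : l ≠ 0 := fun e => by rw [e, mul_zero] at hl; exact one_ne_zero (neg_eq_zero.1 hl.symm)
  -- the complement
  obtain ⟨z, hz0, hφz, hψz⟩ := exists_perp D.φ D.ψ
  obtain ⟨ζ₀, hζ₀, hζv', hζy'⟩ := exists_perp D.v D.y
  rw [dotProduct_comm] at hζv' hζy'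
  let T : (Fin 3 → F) →ₗ[F] (Fin 3 → F) := Matrix.toLin' (Matrix.of ![D.ψ, D.φ, ζ₀])
  have hT : ∀ x, T x = ![D.ψ ⬝ᵥ x, D.φ ⬝ᵥ x, ζ₀ ⬝ᵥ x] := fun x => by
    funext i; fin_cases i <;> rfl
  have hζz : ζ₀ ⬝ᵥ z ≠ 0 := by
    intro h
    have hcol : LinearIndependent F ![D.v, D.y, z] := by
      refine Fintype.linearIndependent_iff.2 fun c hc => ?_
      simp only [Fin.sum_univ_three, Matrix.cons_val_zero, Matrix.cons_val_one, Matrix.cons_val] at hc
      have e1 := congrArg (fun x => D.ψ ⬝ᵥ x) hc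
      simp [dotProduct_add, dotProduct_smul, D.ψv, D.ψy, hψz] at e1
      have e2 := congrArg (fun x => D.φ ⬝ᵥ x) hc
      simp [dotProduct_add, dotProduct_smul, D.φv, D.φy, hφz] at e2
      rw [e1, e2, zero_smul, zero_smul, zero_add, zero_add, smul_eq_zero, or_iff_left hz0] at hc
      intro i; fin_cases i <;> assumption
    refine hζ₀ (dotProduct_eq_zero _ fun x => ?_)
    have hx : x ∈ Submodule.span F (Set.range ![D.v, D.y, z]) := by
      rw [hcol.span_eq_top_of_card_eq_finrank (by simp)]; trivial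
    obtain ⟨c, rfl⟩ := (Submodule.mem_span_range_iff_exists_fun F).1 hx
    simp [Fin.sum_univ_three, hζv', hζy', h]
  set ζ := (ζ₀ ⬝ᵥ z)⁻¹ • ζ₀ with hζdef
  have hζv : ζ ⬝ᵥ D.v = 0 := by rw [hζdef, smul_dotProduct, hζv', smul_zero]
  have hζy : ζ ⬝ᵥ D.y = 0 := by rw [hζdef, smul_dotProduct, hζy', smul_zero]
  have hζ1 : ζ ⬝ᵥ z = 1 := by rw [hζdef, smul_dotProduct, smul_eq_mul, inv_mul_cancel₀ hζz]
  clear_value ζ
  have hdec : ∀ x, x = (D.ψ ⬝ᵥ x) • D.v + (D.φ ⬝ᵥ x) • D.y + (ζ ⬝ᵥ x) • z := by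
    have hsurj : Function.Surjective T := fun t =>
      ⟨t 0 • D.v + t 1 • D.y + (t 2 / (ζ₀ ⬝ᵥ z)) • z, by
        rw [hT]
        funext i
        fin_cases i <;> simp [D.ψv, D.ψy, D.φv, D.φy, hφz, hψz, hζv', hζy', hζz]⟩
    intro x
    refine (LinearMap.injective_iff_surjective.2 hsurj) ?_
    rw [hT, hT]
    funext i
    fin_cases i <;> simp [D.ψv, D.ψy, D.φv, D.φy, hφz, hψz, hζv', hζy', hζdef]
    field_simp
  have hdec' : ∀ ω x : Fin 3 → F, ω ⬝ᵥ x =
      (D.ψ ⬝ᵥ x) * (ω ⬝ᵥ D.v) + (D.φ ⬝ᵥ x) * (ω ⬝ᵥ D.y) + (ζ ⬝ᵥ x) * (ω ⬝ᵥ z) := fun ω x => by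
    conv_lhs => rw [hdec x]
    simp only [dotProduct_add, dotProduct_smul, smul_eq_mul]
  -- the involution
  obtain ⟨J, hJ, hJx⟩ := D.J
  have hJx' : ∀ x, (J : Matrix (Fin 3) (Fin 3) F) *ᵥ x = -x + (2 * (ζ ⬝ᵥ x)) • z := fun x => by
    rw [hJx]
    conv_lhs => arg 1; arg 1; rw [hdec x]
    conv_rhs => arg 1; rw [hdec x]
    module
  have hJJ : ∀ x, (J : Matrix (Fin 3) (Fin 3) F) *ᵥ ((J : Matrix (Fin 3) (Fin 3) F) *ᵥ x) = x := fun x => by
    rw [hJx', hJx', dotProduct_add, dotProduct_neg, dotProduct_smul, hζ1, smul_eq_mul]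
    module
  have hJi : ∀ x, ((J⁻¹ : GL (Fin 3) F) : Matrix (Fin 3) (Fin 3) F) *ᵥ x =
      (J : Matrix (Fin 3) (Fin 3) F) *ᵥ x := fun x => by
    conv_lhs => rw [← hJJ x]
    rw [Matrix.mulVec_mulVec _ ((J⁻¹ : GL (Fin 3) F) : Matrix (Fin 3) (Fin 3) F), ← Units.val_mul,
      inv_mul_cancel, Units.val_one, Matrix.one_mulVec]
  have hJω : ∀ ω : Fin 3 → F, ω ᵥ* ((J⁻¹ : GL (Fin 3) F) : Matrix (Fin 3) (Fin 3) F) =
      -ω + (2 * (ω ⬝ᵥ z)) • ζ := fun ω => dotProduct_eq _ _ fun x => by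
    rw [← Matrix.dotProduct_mulVec, hJi, hJx', dotProduct_add, dotProduct_neg, dotProduct_smul,
      add_dotProduct, neg_dotProduct, smul_dotProduct, smul_eq_mul, smul_eq_mul]
    ring
  have hv0 : D.v ≠ 0 := fun e => by have := D.ψv; rw [e, dotProduct_zero] at this; exact zero_ne_one this
  have hφ0 : D.φ ≠ 0 := fun e => by have := D.φy; rw [e, zero_dotProduct] at this; exact zero_ne_one this
  have hlv : l • D.v ≠ 0 := smul_ne_zero hl0 hv0
  -- a pure transvection with centre on the complement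
  obtain ⟨u, ω, -, hω0, hu, hζu⟩ := exists_centre hirr hlv hφ0 D.U
    (χ := ζ) (fun e => by rw [e, zero_dotProduct] at hζ1; exact zero_ne_one hζ1)
  have hωz : ω ⬝ᵥ z = 0 := by
    have h := hu.1
    rw [hdec' ω u, D.degenerate hu, zero_add, mul_eq_zero] at h
    exact h.resolve_left hζu
  have hpz : Root P ((2 * (ζ ⬝ᵥ u)) • z) ω := by
    have h := (hu.conj hJ).neg.neg_right
    rw [hJx', hJω, hωz, mul_zero, zero_smul, add_zero, neg_neg, neg_add, neg_neg] at h
    have := hu.sub h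
    rwa [sub_add_eq_sub_sub, sub_self, zero_sub, neg_neg] at this
  set z' := (2 * (ζ ⬝ᵥ u)) • z with hz'
  have hφz' : D.φ ⬝ᵥ z' = 0 := by rw [hz', dotProduct_smul, hφz, smul_zero]
  have hψz' : D.ψ ⬝ᵥ z' = 0 := by rw [hz', dotProduct_smul, hψz, smul_zero]
  obtain ⟨k, hk0, hk1, hk2⟩ : ∃ k : F, k ≠ 0 ∧ Root P z' (k • D.φ) ∧ Root P z' ((l * k) • D.φ) := by
    have su : ∀ {ρ}, Root P z' ρ → Root P z' ((l * (ρ ⬝ᵥ D.v)) • D.φ) := fun {ρ} h => by
      have := h.second_axis D.U hφz'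
      rwa [dotProduct_smul, smul_eq_mul] at this
    have sl : ∀ {ρ}, Root P z' ρ → Root P z' ((ρ ⬝ᵥ D.y) • D.ψ) := fun {ρ} h =>
      h.second_axis D.L hψz'
    by_cases hv : ω ⬝ᵥ D.v = 0
    · have hω : ω = (ω ⬝ᵥ D.y) • D.φ := dotProduct_eq _ _ fun x => by
        rw [hdec' ω x, hv, hωz]
        simp only [smul_dotProduct, smul_eq_mul]
        ring
      refine ⟨ω ⬝ᵥ D.y, fun e => hω0 (by rw [hω, e, zero_smul]), hω ▸ hpz, ?_⟩
      have := su (sl hpz)
      rwa [smul_dotProduct, D.ψv, smul_eq_mul, mul_one] at this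
    · refine ⟨ω ⬝ᵥ D.v, hv, ?_, su hpz⟩
      have := su (sl (su hpz))
      simp only [smul_dotProduct, smul_eq_mul, D.φy, D.ψv, mul_one] at this
      rw [← mul_assoc, hl, neg_one_mul, neg_smul] at this
      simpa using this.neg_right
  -- a pure transvection with axis the plane
  obtain ⟨u', ω', hu'0, -, hu', hωz'⟩ := exists_axis hirr hlv hφ0 D.U hz0
  have hζu' : ζ ⬝ᵥ u' = 0 := by
    have h := hu'.1
    rw [hdec' ω' u', D.degenerate hu', zero_add, mul_eq_zero] at h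
    exact h.resolve_right hωz'
  have hpy : Root P ((2 * (ω' ⬝ᵥ z)) • u') ζ := by
    have h := (hu'.conj hJ).neg.neg_right
    rw [hJx', hJω, hζu', mul_zero, zero_smul, add_zero, neg_neg, neg_add, neg_neg] at h
    have := hu'.sub_right h
    rw [sub_add_eq_sub_sub, sub_self, zero_sub, neg_neg] at this
    exact root_smul_iff.2 this
  set w₀ := (2 * (ω' ⬝ᵥ z)) • u' with hw₀
  have hw₀0 : w₀ ≠ 0 := smul_ne_zero (mul_ne_zero h2 hωz') hu'0
  have hw₀U : w₀ = (D.ψ ⬝ᵥ w₀) • D.v + (D.φ ⬝ᵥ w₀) • D.y := by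
    conv_lhs => rw [hdec w₀]
    rw [show ζ ⬝ᵥ w₀ = 0 by rw [hw₀, dotProduct_smul, hζu', smul_zero], zero_smul, add_zero]
  obtain ⟨m, hm0, hm1, hm2⟩ :
      ∃ m : F, m ≠ 0 ∧ Root P (m • D.v) ζ ∧ Root P ((l * m) • D.v) ζ := by
    have su : ∀ {p}, Root P p ζ → Root P ((l * (D.φ ⬝ᵥ p)) • D.v) ζ := fun {p} h => by
      have := h.second_centre D.U (by rw [dotProduct_smul, hζv, smul_zero])
      rwa [smul_smul, mul_comm] at this
    have sl : ∀ {p}, Root P p ζ → Root P ((D.ψ ⬝ᵥ p) • D.y) ζ := fun {p} h =>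
      h.second_centre D.L hζy
    by_cases hf : D.φ ⬝ᵥ w₀ = 0
    · have hw : w₀ = (D.ψ ⬝ᵥ w₀) • D.v := by
        conv_lhs => rw [hw₀U, hf, zero_smul, add_zero]
      refine ⟨D.ψ ⬝ᵥ w₀, fun e => hw₀0 (by rw [hw, e, zero_smul]), hw ▸ hpy, ?_⟩
      have := su (sl hpy)
      rwa [dotProduct_smul, D.φy, smul_eq_mul, mul_one] at this
    · refine ⟨D.φ ⬝ᵥ w₀, hf, ?_, su hpy⟩
      have := su (sl (su hpy))
      simp only [dotProduct_smul, smul_eq_mul, D.φy, D.ψv, mul_one] at this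
      rw [← mul_assoc, hl, neg_one_mul, neg_smul] at this
      simpa using this.neg
  -- the products
  set s := m * k * (ζ ⬝ᵥ z') with hs
  have hζz' : ζ ⬝ᵥ z' ≠ 0 := by
    rw [hz', dotProduct_smul, hζ1, smul_eq_mul, mul_one]; exact mul_ne_zero h2 hζu
  have hs0 : s ≠ 0 := mul_ne_zero (mul_ne_zero hm0 hk0) hζz'
  have hroot : ∀ x, Root P ((x * m) • D.v) ζ → Root P ((x * s) • D.v) D.φ := by
    intro x hx
    have := hx.second_axis hk1 (by rw [smul_dotProduct, dotProduct_smul, D.φv, smul_zero, smul_zero])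
    rw [smul_smul, ← root_smul_iff, smul_smul] at this
    convert this using 2
    rw [hs]; ring
  have hval : ∀ x, Root P ((x * s) • D.v) D.φ → InS l (x * s) := by
    intro x hx
    have := D.value D.pt_two hx
    simpa [D.φv, D.φy, D.ψv, D.ψy] using this
  have v1 := hval 1 (hroot 1 (by rw [one_mul]; exact hm1))
  have v2 := hval l (hroot l hm2)
  have v3 := hval (1 + l) (hroot (1 + l) (by rw [add_mul, one_mul, add_smul]; exact hm1.add hm2))
  rw [one_mul] at v1
  have nl := not_oddDeg_root h3 hl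
  have one' : ∀ t : F, t * t = 1 → InS l ((1 + l) * t) → False := by
    intro t ht hv
    have ht' : t = 1 ∨ t = -1 := mul_self_eq_one_iff.1 ht
    have hv' : InS l (1 + l) := by
      rcases ht' with rfl | rfl
      · rwa [mul_one] at hv
      · have := inS_neg hv h3; rwa [mul_neg, mul_one, neg_neg] at this
    rcases hv' with h | h | h
    · exact nl (by
        rw [show l = 1 + l + -1 by ring]
        exact oddDeg_add h3 h (oddDeg_neg h3 (oddDeg_one h3)))
    · exact one_ne_zero (α := F) (by linear_combination h)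
    · have h1 : l = 1 := by linear_combination -h + l * h3
      rw [h1, one_mul] at hl
      exact h2 (by linear_combination hl)
  have hcancel : ∀ t : F, (s = t ∨ s = -t) → t * t = 1 → False := fun t e ht => by
    refine one' s ?_ v3
    rcases e with e | e <;> rw [e] <;> linear_combination ht
  rcases v1 with hs1 | hs1 | hs1
  · rcases v2 with h | h | h
    · exact nl (by
        rw [show l = l * s / s by field_simp]
        exact oddDeg_div h3 h hs1)
    · exact hcancel 1 (Or.inl (mul_left_cancel₀ hl0 (h.trans (mul_one l).symm))) (mul_one 1)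
    · exact hcancel 1 (Or.inr (mul_left_cancel₀ hl0 (h.trans (by ring)))) (mul_one 1)
  all_goals
    have h3' : InS l (l - 1) := by
      first
      | (have := v3; rw [hs1] at this; convert this using 1; linear_combination -hl; done)
      | (have := inS_neg v3 h3; rw [hs1] at this; convert this using 1; linear_combination -hl; done)
    rcases h3' with h | h | h
    · exact nl (by
        rw [show l = l - 1 + 1 by ring]
        exact oddDeg_add h3 h (oddDeg_one h3))
    · exact one_ne_zero (α := F) (by linear_combination -h)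
    · have h1 : l = -1 := by linear_combination -h + l * h3
      rw [h1] at hl
      exact h2 (by linear_combination hl)

omit D in
/-- For opposite transvections the field generated by the product stabilises the scalars. -/
theorem root_mul (h2 : (2 : F) ≠ 0) (hirr : ActsIrreducibly (matrixSet P)) {v φ w ψ : Fin 3 → F}
    {c d : F} (hc : Root P (c • v) φ) (hd : Root P (d • w) ψ) (hv0 : φ ⬝ᵥ v = 0) (hw0 : ψ ⬝ᵥ w = 0)
    (hc0 : c ≠ 0) (hd0 : d ≠ 0) (hφw : φ ⬝ᵥ w ≠ 0) (hψv : ψ ⬝ᵥ v ≠ 0) :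
    Root P ((c * d * (φ ⬝ᵥ w) * (ψ ⬝ᵥ v) * c) • v) φ := by
  classical
  obtain ⟨hcase, J, hJ, hJx⟩ := dickson h2 hc hd hv0 hw0 hc0 hd0 hφw hψv
  set r := c * d * (φ ⬝ᵥ w) * (ψ ⬝ᵥ v) with hr
  rcases hcase with hall | ⟨h9, hsq⟩
  · exact hall r (Subfield.subset_closure rfl)
  by_contra hno
  have h3 : (3 : F) = 0 := by
    set L := Subfield.closure ({r} : Set F)
    have h0 := FiniteField.cast_card_eq_zero L
    rw [← Nat.card_eq_fintype_card, h9] at h0
    have h1 : (9 : F) = 0 := by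
      have h0' : (9 : L) = 0 := by simpa using h0
      exact (map_ofNat L.subtype 9).symm.trans ((congrArg L.subtype h0').trans (map_zero _))
    exact mul_self_eq_zero.1 (by linear_combination h1)
  have hrr : r * r = -1 := by linear_combination hsq
  have key : (ψ ⬝ᵥ v) * (φ ⬝ᵥ w) * d ≠ 0 := mul_ne_zero (mul_ne_zero hψv hφw) hd0
  have no' : ¬ Root P ((r * d) • w) ψ := by
    intro hrd
    have hr1 : (1 + r) * d ≠ 0 := by
      refine mul_ne_zero (fun e => h2 ?_) hd0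
      rw [show r = -1 by linear_combination e] at hrr
      linear_combination hrr
    have hd' : Root P (((1 + r) * d) • w) ψ := by
      rw [add_mul, one_mul, add_smul]; exact hd.add hrd
    obtain ⟨hcase', -⟩ := dickson h2 hc hd' hv0 hw0 hc0 hr1 hφw hψv
    rw [show c * ((1 + r) * d) * (φ ⬝ᵥ w) * (ψ ⬝ᵥ v) = r - 1 by
      linear_combination (-(1 + r)) * hr + hrr] at hcase'
    rcases hcase' with hall | ⟨-, hsq'⟩
    · refine hno (hall r ?_)
      have h := (Subfield.closure ({r - 1} : Set F)).add_mem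
        (Subfield.subset_closure rfl) (Subfield.one_mem _)
      rwa [sub_add_cancel] at h
    · have h1 : r = -1 := by linear_combination hsq' - hrr + (r - 1) * h3 + h3
      rw [h1] at hrr
      exact h2 (by linear_combination hrr)
  refine Exc.false (l := r)
    { v := v, y := (d * (ψ ⬝ᵥ v)) • w, φ := (d * (ψ ⬝ᵥ v) * (φ ⬝ᵥ w))⁻¹ • φ, ψ := (ψ ⬝ᵥ v)⁻¹ • ψ,
      φv := by rw [smul_dotProduct, hv0, smul_zero]
      φy := by
        rw [smul_dotProduct, dotProduct_smul, smul_eq_mul, smul_eq_mul]; field_simp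
      ψv := by rw [smul_dotProduct, smul_eq_mul, inv_mul_cancel₀ hψv]
      ψy := by rw [smul_dotProduct, dotProduct_smul, hw0, smul_zero, smul_zero]
      U := by
        rw [← root_smul_iff, smul_smul]
        convert hc using 2
        rw [hr]; field_simp
      L := by
        rw [← root_smul_iff, smul_smul]
        convert hd using 2
        field_simp
      no := fun h => hno (by
        rw [← root_smul_iff, smul_smul] at h
        convert h using 2
        rw [hr]; field_simp)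
      no' := fun h => no' (by
        rw [← root_smul_iff, smul_smul, smul_smul] at h
        convert h using 2
        field_simp)
      three := h3
      sq := hrr
      J := ⟨J, hJ, fun x => by
        rw [hJx, smul_dotProduct, smul_dotProduct, smul_eq_mul, smul_eq_mul, smul_smul]
        congr 2
        · congr 1; field_simp
        · field_simp⟩ } hirr

end Cfsg.Agent.PThree
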