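import Cfsg.Agent.Lib.Classical.PThree.TransOdd.Exception

/-!
# The field of a transvection

For opposite transvections `(v, φ)`, `(w, ψ)` of `P` the scalars `x` with `(x v, φ)` in `P` form a
subfield, the same as for `(w, ψ)`, and it contains `φ(w) ψ(v)`.
-/

set_option autoImplicit false
set_option linter.unusedSectionVars false
set_option linter.style.haveILetI false

namespace Cfsg.Agent.PThree

open Matrix Cfsg Cfsg.Geo

variable {F : Type*} [Field F] [Fintype F] {P : Subgroup (GL (Fin 3) F)}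

/-- The multiples of the transvection `(v, φ)` in `P` are those by `K`. -/
def HasField (P : Subgroup (GL (Fin 3) F)) (K : Subfield F) (v φ : Fin 3 → F) : Prop :=
  ∀ x : F, Root P (x • v) φ ↔ x ∈ K

theorem HasField.root {K : Subfield F} {v φ : Fin 3 → F} (hK : HasField P K v φ) : Root P v φ := by
  simpa using (hK 1).2 K.one_mem

theorem HasField.unique {K L : Subfield F} {v φ : Fin 3 → F} (hK : HasField P K v φ)
    (hL : HasField P L v φ) : K = L := by
  ext x; rw [← hK x, hL x]

theorem Root.nat_smul {a φ : Fin 3 → F} (h : Root P a φ) (n : ℕ) : Root P ((n : F) • a) φ := by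
  induction n with
  | zero => rw [Nat.cast_zero, zero_smul]; exact Root.zero_left φ
  | succ n ih => rw [Nat.cast_succ, add_smul, one_smul]; exact ih.add h

theorem inv_eq_pow_card (x : F) (hx : x ≠ 0) : x⁻¹ = x ^ (Fintype.card F - 2) := by
  refine (eq_inv_of_mul_eq_one_left ?_).symm
  rw [← pow_succ, show Fintype.card F - 2 + 1 = Fintype.card F - 1 by
    have := Fintype.one_lt_card (α := F)
    omega]
  exact FiniteField.pow_card_sub_one_eq_one x hx

/-- Polarisation of `root_mul`. -/
theorem root_mul_add (h2 : (2 : F) ≠ 0) (hirr : ActsIrreducibly (matrixSet P))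
    {v φ w ψ : Fin 3 → F} {a b c : F} (hv0 : φ ⬝ᵥ v = 0) (hw0 : ψ ⬝ᵥ w = 0)
    (ha : Root P (a • v) φ) (hb : Root P (b • v) φ) (hc : Root P (c • w) ψ)
    (hφw : φ ⬝ᵥ w ≠ 0) (hψv : ψ ⬝ᵥ v ≠ 0) :
    Root P ((a * b * c * ((φ ⬝ᵥ w) * (ψ ⬝ᵥ v))) • v) φ := by
  have sq : ∀ {t : F}, Root P (t • v) φ → Root P ((t * t * c * ((φ ⬝ᵥ w) * (ψ ⬝ᵥ v))) • v) φ := by
    intro t ht
    by_cases ht0 : t = 0
    · simp [ht0, Root.zero_left]
    by_cases hc0 : c = 0
    · simp [hc0, Root.zero_left]
    convert root_mul h2 hirr ht hc hv0 hw0 ht0 hc0 hφw hψv using 2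
    ring
  have hab : Root P ((a + b) • v) φ := by rw [add_smul]; exact ha.add hb
  have h := (((sq hab).sub (sq ha)).sub (sq hb)).nat_smul (2 ^ (Fintype.card F - 2))
  rw [← sub_smul, ← sub_smul, smul_smul, Nat.cast_pow, Nat.cast_ofNat, ← inv_eq_pow_card _ h2] at h
  convert h using 2
  field_simp
  ring

/-- Opposite transvections have the same field, which contains the product. -/
theorem exists_field (h2 : (2 : F) ≠ 0) (hirr : ActsIrreducibly (matrixSet P))
    {v φ w ψ : Fin 3 → F} (h : Root P v φ) (h' : Root P w ψ) (hφw : φ ⬝ᵥ w ≠ 0) (hψv : ψ ⬝ᵥ v ≠ 0) :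
    ∃ K : Subfield F, HasField P K v φ ∧ HasField P K w ψ ∧ (φ ⬝ᵥ w) * (ψ ⬝ᵥ v) ∈ K := by
  set r := (φ ⬝ᵥ w) * (ψ ⬝ᵥ v)
  have hr0 : r ≠ 0 := mul_ne_zero hφw hψv
  have h1 : Root P ((1 : F) • v) φ := by rwa [one_smul]
  have h1' : Root P ((1 : F) • w) ψ := by rwa [one_smul]
  have hS : ∀ {a b c : F}, Root P (a • v) φ → Root P (b • v) φ → Root P (c • w) ψ →
      Root P ((a * b * c * r) • v) φ := fun ha hb hc => root_mul_add h2 hirr h.1 h'.1 ha hb hc hφw hψv
  have hT : ∀ {a b c : F}, Root P (a • w) ψ → Root P (b • w) ψ → Root P (c • v) φ →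
      Root P ((a * b * c * r) • w) ψ := fun {a b c} ha hb hc => by
    have := root_mul_add h2 hirr h'.1 h.1 ha hb hc hψv hφw
    rwa [mul_comm (ψ ⬝ᵥ v)] at this
  have cancelS : ∀ {a : F}, Root P ((a * r) • v) φ → Root P (a • v) φ := by
    intro a ha
    have hp : ∀ k : ℕ, Root P ((a * r * r ^ k) • v) φ := by
      intro k
      induction k with
      | zero => simpa using ha
      | succ k ih => convert hS ih h1 h1' using 2; ring
    have := hp (Fintype.card F - 2)
    rwa [← inv_eq_pow_card r hr0, mul_inv_cancel_right₀ hr0] at this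
  have cancelT : ∀ {a : F}, Root P ((a * r) • w) ψ → Root P (a • w) ψ := by
    intro a ha
    have hp : ∀ k : ℕ, Root P ((a * r * r ^ k) • w) ψ := by
      intro k
      induction k with
      | zero => simpa using ha
      | succ k ih => convert hT ih h1' h1 using 2; ring
    have := hp (Fintype.card F - 2)
    rwa [← inv_eq_pow_card r hr0, mul_inv_cancel_right₀ hr0] at this
  have mulS : ∀ {a b : F}, Root P (a • v) φ → Root P (b • v) φ → Root P ((a * b) • v) φ :=
    fun ha hb => cancelS (by simpa using hS ha hb h1')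
  let K : Subfield F :=
    { carrier := {x | Root P (x • v) φ}
      zero_mem' := by
        show Root P _ φ
        rw [zero_smul]; exact Root.zero_left φ
      one_mem' := h1
      add_mem' := fun {a b} ha hb => by
        show Root P _ φ
        rw [add_smul]; exact Root.add ha hb
      neg_mem' := fun {a} ha => by
        show Root P _ φ
        rw [neg_smul]; exact Root.neg ha
      mul_mem' := fun ha hb => mulS ha hb
      inv_mem' := fun a ha => by
        show Root P _ φ
        by_cases h0 : a = 0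
        · rw [h0, _root_.inv_zero, zero_smul]; exact Root.zero_left φ
        · have hp : ∀ k : ℕ, Root P ((a ^ k) • v) φ := by
            intro k
            induction k with
            | zero => simpa using h1
            | succ k ih => rw [pow_succ]; exact mulS ih ha
          rw [inv_eq_pow_card a h0]
          exact hp _ }
  refine ⟨K, fun x => Iff.rfl, fun x => ⟨fun hx => ?_, fun hx => ?_⟩, ?_⟩
  · exact cancelS (by simpa using hS h1 h1 hx)
  · exact cancelT (by simpa using hT h1' h1' hx)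
  · show Root P (r • v) φ
    simpa using hS h1 h1 h1'

/-- A root opposite to one with field `K` has field `K`. -/
theorem HasField.opposite {K : Subfield F} {v φ w ψ : Fin 3 → F} (hK : HasField P K v φ)
    (h2 : (2 : F) ≠ 0) (hirr : ActsIrreducibly (matrixSet P)) (h' : Root P w ψ)
    (hφw : φ ⬝ᵥ w ≠ 0) (hψv : ψ ⬝ᵥ v ≠ 0) : HasField P K w ψ := by
  obtain ⟨L, h1, h1', -⟩ := exists_field h2 hirr hK.root h' hφw hψv
  rwa [hK.unique h1]

/-- The product test. -/
theorem HasField.test {K : Subfield F} {v φ w ψ : Fin 3 → F} (hK : HasField P K v φ)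
    (h2 : (2 : F) ≠ 0) (hirr : ActsIrreducibly (matrixSet P)) (h' : Root P w ψ) :
    (φ ⬝ᵥ w) * (ψ ⬝ᵥ v) ∈ K := by
  by_cases hφw : φ ⬝ᵥ w = 0
  · rw [hφw, zero_mul]; exact K.zero_mem
  by_cases hψv : ψ ⬝ᵥ v = 0
  · rw [hψv, mul_zero]; exact K.zero_mem
  obtain ⟨L, h1, -, hr⟩ := exists_field h2 hirr hK.root h' hφw hψv
  rwa [hK.unique h1]

theorem HasField.smul {K : Subfield F} {v φ : Fin 3 → F} (hK : HasField P K v φ) {a b : F}
    (hab : a * b ∈ K) (h0 : a * b ≠ 0) : HasField P K (a • v) (b • φ) := fun x => by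
  rw [← root_smul_iff, smul_smul, smul_smul, hK]
  refine ⟨fun h => ?_, fun h => ?_⟩
  · have := K.mul_mem h (K.inv_mem hab)
    rwa [show b * x * a * (a * b)⁻¹ = x * ((a * b) * (a * b)⁻¹) by ring, mul_inv_cancel₀ h0,
      mul_one] at this
  · rw [show b * x * a = x * (a * b) by ring]
    exact K.mul_mem h hab

theorem HasField.conj {K : Subfield F} {v φ w ψ : Fin 3 → F} (hK : HasField P K v φ)
    (h' : Root P w ψ) : HasField P K (v + (ψ ⬝ᵥ v) • w) (φ - (φ ⬝ᵥ w) • ψ) := fun x => by
  rw [← hK x]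
  refine ⟨fun h => ?_, fun h => ?_⟩
  · have h1 := h.conj_root h'.neg
    simp only [smul_add, dotProduct_add, dotProduct_smul, dotProduct_neg, sub_dotProduct,
      smul_dotProduct, smul_eq_mul, h'.1, mul_zero, add_zero, sub_zero, smul_neg, neg_smul] at h1
    convert h1 using 1 <;> module
  · have h1 := h.conj_root h'
    rw [dotProduct_smul, smul_eq_mul, ← smul_smul, ← smul_add] at h1
    exact h1

end Cfsg.Agent.PThree
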