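import Cfsg.Agent.Lib.Classical.PThree.TransOdd.Field
import Cfsg.Agent.Lib.Classical.PThree.Span

/-!
# Generation by transvections, rationality, change of coordinates
-/

set_option autoImplicit false
set_option linter.unusedSectionVars false
set_option linter.style.haveILetI false

namespace Cfsg.Agent.PThree

open Matrix Cfsg Cfsg.Geo
open Cfsg.Agent.Small.Generation
open scoped MatrixGroups commutatorElement

variable {F : Type*} [Field F] [Fintype F] {P : Subgroup (GL (Fin 3) F)}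

/-- A perfect group, simple modulo scalars, is generated by its transvections. -/
theorem Ctx.le_of_roots (h : Ctx P) {v₀ φ₀ : Fin 3 → F} (hv₀ : v₀ ≠ 0) (hφ₀ : φ₀ ≠ 0)
    (h₀ : Root P v₀ φ₀) {X : Subgroup (GL (Fin 3) F)}
    (hX : ∀ v φ : Fin 3 → F, v ≠ 0 → φ ≠ 0 → Root P v φ → ∀ g : GL (Fin 3) F,
      (g : Matrix (Fin 3) (Fin 3) F) = tv v φ → g ∈ X) : P ≤ X := by
  set T : Set (GL (Fin 3) F) := {g | ∃ v φ : Fin 3 → F, v ≠ 0 ∧ φ ≠ 0 ∧ Root P v φ ∧
    (g : Matrix (Fin 3) (Fin 3) F) = tv v φ}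
  set N := Subgroup.closure T
  have hNX : N ≤ X := (Subgroup.closure_le _).2 fun g ⟨v, φ, hv, hφ, hr, e⟩ => hX v φ hv hφ hr g e
  have hnorm : ∀ g ∈ P, ∀ n ∈ N, g * n * g⁻¹ ∈ N := by
    intro g hg
    suffices N ≤ N.comap (MulAut.conj g).toMonoidHom from fun n hn => this hn
    rw [Subgroup.closure_le]
    rintro t ⟨v, φ, hv, hφ, hr, e⟩
    refine Subgroup.subset_closure ⟨_, _, fun e => hv ?_, fun e => hφ ?_, hr.conj hg, ?_⟩
    · have := congrArg (fun w => ((g⁻¹ : GL (Fin 3) F) : Matrix (Fin 3) (Fin 3) F) *ᵥ w) e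
      simpa [Matrix.mulVec_mulVec] using this
    · have := congrArg (fun w => w ᵥ* (g : Matrix (Fin 3) (Fin 3) F)) e
      simpa [Matrix.vecMul_vecMul] using this
    · simp only [MulEquiv.coe_toMonoidHom, MulAut.conj_apply, Units.val_mul, e]
      rw [tv, tv, Matrix.mul_add, Matrix.mul_one, Matrix.add_mul, Units.mul_inv, Matrix.mul_vecMulVec,
        Matrix.vecMulVec_mul]
  obtain ⟨x₀, hx₀, e₀⟩ := h₀.2
  set S := (scalars (Fin 3) F).subgroupOf P
  have hNn : (N.subgroupOf P).Normal := ⟨fun n hn g => hnorm _ g.2 _ hn⟩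
  haveI := h.simple
  haveI : ((N.subgroupOf P).map (QuotientGroup.mk' S)).Normal :=
    hNn.map _ (QuotientGroup.mk'_surjective S)
  refine le_trans ?_ hNX
  rcases IsSimpleGroup.eq_bot_or_eq_top_of_normal _ this with hb | ht
  · exfalso
    have hxN : (⟨x₀, hx₀⟩ : P) ∈ N.subgroupOf P :=
      Subgroup.mem_subgroupOf.2 (Subgroup.subset_closure ⟨v₀, φ₀, hv₀, hφ₀, h₀, e₀⟩)
    have := Subgroup.mem_map_of_mem (QuotientGroup.mk' S) hxN
    rw [hb, Subgroup.mem_bot, QuotientGroup.mk'_apply, QuotientGroup.eq_one_iff] at this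
    obtain ⟨c, hc⟩ := (mem_scalars_iff x₀).1 (Subgroup.mem_subgroupOf.1 this)
    -- a scalar transvection fixes a vector, so it is trivial
    obtain ⟨z, hz, hφz, -⟩ := exists_perp φ₀ φ₀
    have ez := congrArg (fun M => M *ᵥ z) hc
    simp only [e₀, tv_mulVec, hφz, zero_smul, add_zero, Matrix.smul_mulVec, Matrix.one_mulVec] at ez
    have hc1 : (c : F) = 1 := by
      refine (smul_left_injective F hz ?_).symm
      show (1 : F) • z = (c : F) • z
      rw [one_smul]; exact ez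
    rw [hc1, one_smul, e₀, tv, add_eq_left, Matrix.vecMulVec_eq_zero] at hc
    exact hc.elim hv₀ hφ₀
  · have hcov : ∀ p ∈ P, ∃ n ∈ N, n⁻¹ * p ∈ scalars (Fin 3) F := fun p hp => by
      have hp' : QuotientGroup.mk' S ⟨p, hp⟩ ∈ (N.subgroupOf P).map (QuotientGroup.mk' S) :=
        ht ▸ Subgroup.mem_top _
      obtain ⟨n, hn, en⟩ := hp'
      exact ⟨n, hn, Subgroup.mem_subgroupOf.1 (QuotientGroup.eq.1 en)⟩
    conv_lhs => rw [← h.perfect]
    rw [Subgroup.commutator_le]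
    intro a ha b hb
    obtain ⟨n, hn, hza⟩ := hcov a ha
    obtain ⟨m, hm, hzb⟩ := hcov b hb
    have c1 := Cfsg.Agent.Classical.scalars_commute hza
    have c2 := Cfsg.Agent.Classical.scalars_commute hzb
    obtain ⟨z, rfl⟩ : ∃ z, a = n * z := ⟨n⁻¹ * a, by group⟩
    obtain ⟨z', rfl⟩ : ∃ z', b = m * z' := ⟨m⁻¹ * b, by group⟩
    simp only [inv_mul_cancel_left] at c1 c2
    rw [commutatorElement_def]
    have eab : n * z * (m * z') * (n * z)⁻¹ * (m * z')⁻¹ = n * m * n⁻¹ * m⁻¹ := by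
      calc n * z * (m * z') * (n * z)⁻¹ * (m * z')⁻¹
          = n * (z * m) * z' * z⁻¹ * n⁻¹ * z'⁻¹ * m⁻¹ := by group
        _ = n * (m * z) * z' * z⁻¹ * n⁻¹ * z'⁻¹ * m⁻¹ := by rw [c1]
        _ = n * m * (z * z') * z⁻¹ * n⁻¹ * z'⁻¹ * m⁻¹ := by group
        _ = n * m * (z' * z) * z⁻¹ * n⁻¹ * z'⁻¹ * m⁻¹ := by rw [c1 z']
        _ = n * m * (z' * n⁻¹) * z'⁻¹ * m⁻¹ := by group
        _ = n * m * (n⁻¹ * z') * z'⁻¹ * m⁻¹ := by rw [c2 n⁻¹]
        _ = n * m * n⁻¹ * m⁻¹ := by group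
    rw [eab]
    exact N.mul_mem (N.mul_mem (N.mul_mem hn hm) (N.inv_mem hn)) (N.inv_mem hm)

/-! ### Coordinates -/

/-- `P` in the coordinates of the basis given by the columns of `B`. -/
def inBasis (P : Subgroup (GL (Fin 3) F)) (B : GL (Fin 3) F) : Subgroup (GL (Fin 3) F) :=
  P.comap (MulAut.conj B).toMonoidHom

theorem mem_inBasis {B g : GL (Fin 3) F} : g ∈ inBasis P B ↔ B * g * B⁻¹ ∈ P := Iff.rfl

theorem coe_conj_tv {B g : GL (Fin 3) F} {v φ : Fin 3 → F}
    (hg : (g : Matrix (Fin 3) (Fin 3) F) = tv v φ) :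
    ((B * g * B⁻¹ : GL (Fin 3) F) : Matrix (Fin 3) (Fin 3) F) =
      tv ((B : Matrix (Fin 3) (Fin 3) F) *ᵥ v)
        (φ ᵥ* ((B⁻¹ : GL (Fin 3) F) : Matrix (Fin 3) (Fin 3) F)) := by
  rw [Units.val_mul, Units.val_mul, hg, tv, tv, Matrix.mul_add, Matrix.mul_one, Matrix.add_mul,
    Units.mul_inv, Matrix.mul_vecMulVec, Matrix.vecMulVec_mul]

theorem root_inBasis {B : GL (Fin 3) F} {v φ : Fin 3 → F} :
    Root (inBasis P B) v φ ↔ Root P ((B : Matrix (Fin 3) (Fin 3) F) *ᵥ v)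
      (φ ᵥ* ((B⁻¹ : GL (Fin 3) F) : Matrix (Fin 3) (Fin 3) F)) := by
  have hd : (φ ᵥ* ((B⁻¹ : GL (Fin 3) F) : Matrix (Fin 3) (Fin 3) F)) ⬝ᵥ
      ((B : Matrix (Fin 3) (Fin 3) F) *ᵥ v) = φ ⬝ᵥ v := by
    rw [← Matrix.dotProduct_mulVec, Matrix.mulVec_mulVec, Units.inv_mul, Matrix.one_mulVec]
  constructor
  · rintro ⟨h0, g, hg, e⟩
    exact ⟨hd.trans h0, _, hg, coe_conj_tv e⟩
  · rintro ⟨h0, g, hg, e⟩
    refine ⟨hd.symm.trans h0, B⁻¹ * g * B, ?_, ?_⟩
    · rw [mem_inBasis]; simpa [mul_assoc] using hg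
    · have := coe_conj_tv (B := B⁻¹) e
      rw [inv_inv] at this
      rw [this, Matrix.mulVec_mulVec, Units.inv_mul, Matrix.one_mulVec, Matrix.vecMul_vecMul,
        Units.inv_mul, Matrix.vecMul_one]

theorem root_of_inBasis {B : GL (Fin 3) F} {v φ : Fin 3 → F} :
    Root P v φ ↔ Root (inBasis P B) (((B⁻¹ : GL (Fin 3) F) : Matrix (Fin 3) (Fin 3) F) *ᵥ v)
      (φ ᵥ* (B : Matrix (Fin 3) (Fin 3) F)) := by
  rw [root_inBasis, Matrix.mulVec_mulVec, Units.mul_inv, Matrix.one_mulVec, Matrix.vecMul_vecMul,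
    Units.mul_inv, Matrix.vecMul_one]

theorem irreducible_inBasis (B : GL (Fin 3) F) (hirr : ActsIrreducibly (matrixSet P)) :
    ActsIrreducibly (matrixSet (inBasis P B)) := by
  intro W hW
  set L := Matrix.toLin' (B : Matrix (Fin 3) (Fin 3) F) with hL
  have hLinj : Function.Injective L := fun a b e => by
    rw [hL, Matrix.toLin'_apply, Matrix.toLin'_apply] at e
    have := congrArg (fun w => ((B⁻¹ : GL (Fin 3) F) : Matrix (Fin 3) (Fin 3) F) *ᵥ w) e
    simpa [Matrix.mulVec_mulVec] using this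
  have h1 : W.map L = ⊥ ∨ W.map L = ⊤ := by
    refine hirr _ ?_
    rintro _ ⟨g, hg, rfl⟩ _ ⟨_, ⟨w, hw, rfl⟩, rfl⟩
    have hg' : B⁻¹ * g * B ∈ inBasis P B := by
      rw [mem_inBasis]; simpa [mul_assoc] using hg
    refine ⟨((B⁻¹ * g * B : GL (Fin 3) F) : Matrix (Fin 3) (Fin 3) F) *ᵥ w,
      hW _ ⟨_, hg', rfl⟩ ⟨w, hw, Matrix.toLin'_apply _ _⟩, ?_⟩
    simp only [hL, Matrix.toLin'_apply, Matrix.mulVec_mulVec]
    rw [← Units.val_mul, ← mul_assoc, ← mul_assoc, mul_inv_cancel, one_mul, Units.val_mul]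
  rcases h1 with e | e
  · left
    rw [eq_bot_iff]
    intro w hw
    have : L w ∈ W.map L := ⟨w, hw, rfl⟩
    rw [e, Submodule.mem_bot] at this
    rw [Submodule.mem_bot]
    exact hLinj (this.trans (map_zero L).symm)
  · right
    rw [eq_top_iff]
    intro w _
    have : L w ∈ W.map L := e ▸ trivial
    obtain ⟨w', hw', ee⟩ := this
    rwa [← hLinj ee]

/-! ### Rationality -/

theorem exists_fix_pow (K : Subfield F) :
    ∃ τ : F ≃+* F, (∀ x, τ x = x ^ Nat.card K) ∧ (∀ x, τ x = x ↔ x ∈ K) := by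
  classical
  refine ⟨(FiniteField.frobeniusAlgEquivOfAlgebraic K F).toRingEquiv, fun x => ?_, fun x => ?_⟩
  · rw [Nat.card_eq_fintype_card]; rfl
  show x ^ Fintype.card K = x ↔ x ∈ K
  refine ⟨fun hx => ?_, fun hx => congrArg K.subtype (FiniteField.pow_card (⟨x, hx⟩ : K))⟩
  by_contra hno
  have h1 : 1 < Fintype.card K := Fintype.one_lt_card
  have hne := FiniteField.X_pow_card_sub_X_ne_zero F h1
  set Z : Finset F := insert x ((Finset.univ : Finset K).image K.subtype)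
  have hZ := Polynomial.card_le_degree_of_subset_roots (Z := Z)
    (p := (Polynomial.X ^ Fintype.card K - Polynomial.X : Polynomial F)) (fun a ha => by
      rw [Finset.mem_val, Finset.mem_insert, Finset.mem_image] at ha
      rw [Polynomial.mem_roots hne]
      have : a ^ Fintype.card K = a := by
        rcases ha with rfl | ⟨y, -, rfl⟩
        · exact hx
        · exact congrArg K.subtype (FiniteField.pow_card y)
      simp [this])
  rw [Finset.card_insert_of_notMem (fun h => hno (by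
    obtain ⟨y, -, rfl⟩ := Finset.mem_image.1 h
    exact y.2)), Finset.card_image_of_injective _ K.subtype_injective, Finset.card_univ,
    FiniteField.X_pow_card_sub_X_natDegree_eq F h1] at hZ
  omega

/-- Transvections rational over the fixed field give a twist. -/
theorem twist_of_rat (h : Ctx P) {v₀ φ₀ : Fin 3 → F} (hv₀ : v₀ ≠ 0) (hφ₀ : φ₀ ≠ 0)
    (h₀ : Root P v₀ φ₀) (B : GL (Fin 3) F) (τ : F ≃+* F)
    (hrat : ∀ v φ : Fin 3 → F, v ≠ 0 → φ ≠ 0 → Root P v φ → ∀ i j,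
      τ ((((B⁻¹ : GL (Fin 3) F) : Matrix (Fin 3) (Fin 3) F) *ᵥ v) i *
        (φ ᵥ* (B : Matrix (Fin 3) (Fin 3) F)) j) =
      (((B⁻¹ : GL (Fin 3) F) : Matrix (Fin 3) (Fin 3) F) *ᵥ v) i *
        (φ ᵥ* (B : Matrix (Fin 3) (Fin 3) F)) j) :
    Twist P τ := by
  let X : Subgroup (GL (Fin 3) F) :=
    { carrier := {g | (((B⁻¹ * g * B : GL (Fin 3) F)) : Matrix (Fin 3) (Fin 3) F).map τ =
        ((B⁻¹ * g * B : GL (Fin 3) F) : Matrix (Fin 3) (Fin 3) F)}
      one_mem' := by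
        show Matrix.map _ τ = _
        simp [Matrix.map_one]
      mul_mem' := fun {a b} ha hb => by
        show Matrix.map _ τ = _
        rw [show B⁻¹ * (a * b) * B = (B⁻¹ * a * B) * (B⁻¹ * b * B) by group, Units.val_mul,
          Matrix.map_mul, show Matrix.map _ τ = _ from ha, show Matrix.map _ τ = _ from hb]
      inv_mem' := fun {a} ha => by
        show Matrix.map _ τ = _
        set b := B⁻¹ * a * B with hb
        have hb' : B⁻¹ * a⁻¹ * B = b⁻¹ := by rw [hb]; group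
        rw [hb']
        have e : (b : Matrix (Fin 3) (Fin 3) F).map τ = b := ha
        have e1 : (b : Matrix (Fin 3) (Fin 3) F) *
            ((b⁻¹ : GL (Fin 3) F) : Matrix (Fin 3) (Fin 3) F).map τ = 1 := by
          nth_rewrite 1 [← e]
          rw [← Matrix.map_mul, Units.mul_inv, Matrix.map_one _ (map_zero τ) (map_one τ)]
        calc ((b⁻¹ : GL (Fin 3) F) : Matrix (Fin 3) (Fin 3) F).map τ
            = ((b⁻¹ : GL (Fin 3) F) : Matrix (Fin 3) (Fin 3) F) * ((b : Matrix (Fin 3) (Fin 3) F) *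
              ((b⁻¹ : GL (Fin 3) F) : Matrix (Fin 3) (Fin 3) F).map τ) := by
              rw [← Matrix.mul_assoc, Units.inv_mul, Matrix.one_mul]
          _ = _ := by rw [e1, Matrix.mul_one] }
  have hX : P ≤ X := h.le_of_roots hv₀ hφ₀ h₀ fun v φ hv hφ hr g hg => by
    show Matrix.map _ τ = _
    have hc := coe_conj_tv (B := B⁻¹) hg
    rw [inv_inv] at hc
    rw [hc]
    ext i j
    simp only [Matrix.map_apply, tv, Matrix.add_apply, map_add, Matrix.vecMulVec_apply]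
    rw [hrat v φ hv hφ hr i j]
    congr 1
    rw [Matrix.one_apply]
    split_ifs <;> simp
  refine twist_of_traces h τ fun x hx => ?_
  have e := congrArg Matrix.trace (hX hx : Matrix.map _ τ = _)
  rw [map_trace'] at e
  rwa [Units.val_mul, Units.val_mul, Matrix.trace_mul_comm, ← Matrix.mul_assoc, Units.mul_inv,
    Matrix.one_mul] at e

end Cfsg.Agent.PThree
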