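import Cfsg.Agent.Lib.Classical.PThree.TEven.Trans
import Cfsg.Agent.Lib.Classical.PThree.TransOdd.Gen

/-!
# No centre with two axes

When any two transvections are opposite or commute, three of them give a frame in which every
transvection is read off from its values on the first centres, by a Galois twist of order two.
-/

set_option autoImplicit false
set_option linter.unusedSectionVars false
set_option linter.style.haveILetI false

namespace Cfsg.Agent.PThree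

open Matrix Cfsg Cfsg.Geo
open Cfsg.Agent.Small.Generation

variable {F : Type*} [Field F] [Fintype F] {P : Subgroup (GL (Fin 3) F)}

/-- Two transvections pair to zero on both sides or on neither. -/
def Paired (P : Subgroup (GL (Fin 3) F)) : Prop :=
  ∀ v φ w ψ : Fin 3 → F, v ≠ 0 → φ ≠ 0 → w ≠ 0 → ψ ≠ 0 → Root P v φ → Root P w ψ →
    φ ⬝ᵥ w = 0 → ψ ⬝ᵥ v = 0

theorem two_axes_of_not_paired (h : ¬ Paired P) :
    ∃ v φ φ' : Fin 3 → F, v ≠ 0 ∧ φ ≠ 0 ∧ Root P v φ ∧ Root P v φ' ∧ ∀ s : F, φ' ≠ s • φ := by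
  simp only [Paired, not_forall] at h
  obtain ⟨v, φ, w, ψ, hv, hφ, hw, hψ, r, r', h0, h1⟩ := h
  refine ⟨w, ψ, (ψ ⬝ᵥ v) • φ, hw, hψ, r', root_smul_iff.1 (r.second_centre r' h0), fun s e => ?_⟩
  have := congrArg (· ⬝ᵥ v) e
  simp only [smul_dotProduct, r.1, smul_eq_mul, mul_zero] at this
  rw [(mul_eq_zero.1 this.symm).resolve_right h1, zero_smul, smul_eq_zero] at e
  exact e.elim h1 hφ

/-- Commuting transvections have the same centre. -/
theorem Paired.centre_par (H : Paired P) (h2 : (2 : F) ≠ 0) (hirr : ActsIrreducibly (matrixSet P))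
    {v φ w ψ : Fin 3 → F} (hv : v ≠ 0) (hφ : φ ≠ 0) (hw : w ≠ 0) (hψ : ψ ≠ 0)
    (r : Root P v φ) (r' : Root P w ψ) (h0 : φ ⬝ᵥ w = 0) : ∃ s : F, v = s • w := by
  by_contra hne
  push Not at hne
  obtain ⟨s, hs⟩ := TEven.axes_par hw hne hψ r.1 h0 (H v φ w ψ hv hφ hw hψ r r' h0) r'.1
  have hs0 : s ≠ 0 := fun e => hφ (by rw [hs, e, zero_smul])
  have r1 : Root P (s • v) ψ := by rw [root_smul_iff, ← hs]; exact r
  obtain ⟨u, χ, ru, hψu, hχw⟩ := exists_opposite hirr hw hψ r'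
  obtain ⟨K, hKw, hKu, -⟩ := exists_field h2 hirr r' ru hψu hχw
  have hu0 : u ≠ 0 := fun e => hψu (by rw [e, dotProduct_zero])
  have hχ0 : χ ≠ 0 := fun e => hχw (by rw [e, zero_dotProduct])
  set t := (χ ⬝ᵥ (s • v)) / (χ ⬝ᵥ w)
  have ht : t ∈ K := by
    convert K.div_mem (hKu.test h2 hirr r1) (hKu.test h2 hirr r') using 1
    simp only [t]
    field_simp
  refine hψu (H u χ (s • v - t • w) ψ hu0 hχ0 ?_ hψ ru (r1.sub ((hKw t).2 ht)) ?_)
  · intro e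
    refine hne (t / s) ?_
    rw [sub_eq_zero] at e
    calc v = s⁻¹ • (s • v) := by rw [smul_smul, inv_mul_cancel₀ hs0, one_smul]
      _ = _ := by rw [e, smul_smul]; congr 1; ring
  · rw [dotProduct_sub, dotProduct_smul t, smul_eq_mul, div_mul_cancel₀ _ hχw, sub_self]

/-- The values of a normalised transvection on a normalised opposite pair. -/
theorem Paired.key (H : Paired P) (h2 : (2 : F) ≠ 0) (hirr : ActsIrreducibly (matrixSet P))
    {K : Subfield F} {τ : F ≃+* F} (hτ : ∀ x, τ x = x ↔ x ∈ K)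
    {v φ w ψ u χ : Fin 3 → F} (r : HasField P K v φ) (r' : HasField P K w ψ) (ru : Root P u χ)
    (hψv : ψ ⬝ᵥ v = -1) (hφw : φ ⬝ᵥ w = 1) (hφu : φ ⬝ᵥ u = 1) (hχv : χ ⬝ᵥ v = -1) :
    χ ⬝ᵥ w = -τ (ψ ⬝ᵥ u) ∧ τ (τ (ψ ⬝ᵥ u)) = ψ ⬝ᵥ u := by
  set a := ψ ⬝ᵥ u
  set b := χ ⬝ᵥ w
  have conj : ∀ x ∈ K, Root P (u + x • v) (χ + x • φ) := fun x hx => by
    have := ru.conj_root ((r x).2 hx)
    rwa [hφu, one_smul, dotProduct_smul, hχv, smul_eq_mul, mul_neg, mul_one, neg_smul, sub_neg_eq_add]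
      at this
  have hab : a * b ∈ K := r'.test h2 hirr ru
  have hd : a - b ∈ K := by
    have := r'.test h2 hirr (conj 1 K.one_mem)
    rw [one_smul, one_smul, dotProduct_add, add_dotProduct, hψv, hφw] at this
    have := K.add_mem (K.sub_mem this hab) K.one_mem
    convert this using 1
    simp only [a, b]; ring
  by_cases ha : a ∈ K
  · have hb : b = -a := by
      have hz : (u + a • v) ≠ 0 := fun e => by
        have := congrArg (φ ⬝ᵥ ·) e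
        simp [dotProduct_add, dotProduct_smul, hφu, r.root.1] at this
      have hz' : (χ + a • φ) ≠ 0 := fun e => by
        have := congrArg (· ⬝ᵥ v) e
        simp [add_dotProduct, smul_dotProduct, hχv, r.root.1] at this
      have := H w ψ _ _ (fun e => by rw [e, dotProduct_zero] at hφw; exact zero_ne_one hφw)
        (fun e => by rw [e, zero_dotProduct, eq_comm, neg_eq_zero] at hψv; exact one_ne_zero hψv)
        hz hz' r'.root (conj a ha) (by simp [dotProduct_add, dotProduct_smul, hψv, a])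
      rw [add_dotProduct, smul_dotProduct, hφw, smul_eq_mul, mul_one] at this
      exact eq_neg_of_add_eq_zero_left this
    rw [(hτ a).2 ha, (hτ a).2 ha]
    exact ⟨hb, rfl⟩
  · have e1 : τ a * τ b = a * b := by rw [← map_mul]; exact (hτ _).2 hab
    have e2 : τ a - τ b = a - b := by rw [← map_sub]; exact (hτ _).2 hd
    have hne : τ a - a ≠ 0 := fun e => ha ((hτ a).1 (sub_eq_zero.1 e))
    have e3 : (τ a - a) * (τ a + b) = 0 := by linear_combination e1 + (τ a) * e2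
    have e4 : τ a = -b := eq_neg_of_add_eq_zero_left ((mul_eq_zero.1 e3).resolve_left hne)
    refine ⟨by rw [e4, neg_neg], ?_⟩
    have e5 : τ b = -a := by linear_combination e4 - e2
    rw [e4, map_neg, e5, neg_neg]

/-- Three transvections with their Gram data. -/
structure Frame (P : Subgroup (GL (Fin 3) F)) (K : Subfield F) (τ : F ≃+* F) where
  v : Fin 3 → Fin 3 → F
  φ : Fin 3 → Fin 3 → F
  β : F
  fld : ∀ i, HasField P K (v i) (φ i)
  hτ : ∀ x, τ x = x ↔ x ∈ K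
  a01 : φ 0 ⬝ᵥ v 1 = 1
  a02 : φ 0 ⬝ᵥ v 2 = 1
  a10 : φ 1 ⬝ᵥ v 0 = -1
  a20 : φ 2 ⬝ᵥ v 0 = -1
  a12 : φ 1 ⬝ᵥ v 2 = β
  a21 : φ 2 ⬝ᵥ v 1 = -τ β
  hβ2 : τ (τ β) = β
  hβ : τ β ≠ β

theorem exists_normalised {K : Subfield F} (h2 : (2 : F) ≠ 0) (hirr : ActsIrreducibly (matrixSet P))
    {v φ u χ : Fin 3 → F} (r : HasField P K v φ) (ru : Root P u χ) (h1 : φ ⬝ᵥ u ≠ 0) (h2' : χ ⬝ᵥ v ≠ 0) :
    ∃ u' χ' : Fin 3 → F, HasField P K u' χ' ∧ φ ⬝ᵥ u' = 1 ∧ χ' ⬝ᵥ v = -1 ∧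
      u = (φ ⬝ᵥ u) • u' ∧ χ = (-(χ ⬝ᵥ v)) • χ' ∧ (φ ⬝ᵥ u) * -(χ ⬝ᵥ v) ∈ K := by
  have hp : (φ ⬝ᵥ u) * -(χ ⬝ᵥ v) ∈ K := by rw [mul_neg]; exact K.neg_mem (r.test h2 hirr ru)
  refine ⟨(φ ⬝ᵥ u)⁻¹ • u, (-(χ ⬝ᵥ v))⁻¹ • χ, (r.opposite h2 hirr ru h1 h2').smul ?_ ?_, ?_, ?_, ?_, ?_, hp⟩
  · rw [← mul_inv]; exact K.inv_mem hp
  · exact mul_ne_zero (inv_ne_zero h1) (inv_ne_zero (neg_ne_zero.2 h2'))
  · rw [dotProduct_smul, smul_eq_mul, inv_mul_cancel₀ h1]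
  · rw [smul_dotProduct, smul_eq_mul]; field_simp
  · rw [smul_smul, mul_inv_cancel₀ h1, one_smul]
  · rw [smul_smul, mul_inv_cancel₀ (neg_ne_zero.2 h2'), one_smul]

theorem Paired.exists_frame (H : Paired P) (h2 : (2 : F) ≠ 0) (hirr : ActsIrreducibly (matrixSet P))
    {v₀ φ₀ : Fin 3 → F} (hv₀ : v₀ ≠ 0) (hφ₀ : φ₀ ≠ 0) (r₀ : Root P v₀ φ₀) :
    ∃ (K : Subfield F) (τ : F ≃+* F), Nonempty (Frame P K τ) ∧ ∀ x, τ x = x ^ Nat.card K := by
  classical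
  obtain ⟨w₁, ψ₁, r₁, hd1, hd2⟩ := exists_opposite hirr hv₀ hφ₀ r₀
  obtain ⟨K, hK₀, -, -⟩ := exists_field h2 hirr r₀ r₁ hd1 hd2
  obtain ⟨τ, hpow, hτ⟩ := exists_fix_pow K
  obtain ⟨w, ψ, hw, hφw, hψv, -, -, -⟩ := exists_normalised h2 hirr hK₀ r₁ hd1 hd2
  have hw0 : w ≠ 0 := fun e => by rw [e, dotProduct_zero] at hφw; exact zero_ne_one hφw
  obtain ⟨θ, hθ, hθv, hθw⟩ := exists_perp v₀ w
  rw [dotProduct_comm] at hθv hθw
  obtain ⟨u, χ, hu0, hχ0, ru, hθu⟩ := exists_centre hirr hv₀ hφ₀ r₀ hθ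
  have hφu : φ₀ ⬝ᵥ u ≠ 0 := fun e => by
    obtain ⟨s, hs⟩ := H.centre_par h2 hirr hv₀ hφ₀ hu0 hχ0 r₀ ru e
    have hs0 : s ≠ 0 := fun e' => hv₀ (by rw [hs, e', zero_smul])
    refine hθu ?_
    rw [show u = s⁻¹ • v₀ by rw [hs, smul_smul, inv_mul_cancel₀ hs0, one_smul], dotProduct_smul, hθv, smul_zero]
  have hχv : χ ⬝ᵥ v₀ ≠ 0 := fun e => hφu (H u χ v₀ φ₀ hu0 hχ0 hv₀ hφ₀ ru r₀ e)
  obtain ⟨z, ω, hz, hφz, hωv, hzu, -, -⟩ := exists_normalised h2 hirr hK₀ ru hφu hχv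
  have hθz : θ ⬝ᵥ z ≠ 0 := fun e => hθu (by rw [hzu, dotProduct_smul, e, smul_zero])
  obtain ⟨k1, k2⟩ := H.key h2 hirr hτ hK₀ hw hz.root hψv hφw hφz hωv
  refine ⟨K, τ, ⟨⟨![v₀, w, z], ![φ₀, ψ, ω], ψ ⬝ᵥ z, fun i => ?_, hτ, hφw, hφz, hψv, hωv, rfl, k1, k2, ?_⟩⟩,
    hpow⟩
  · fin_cases i
    · exact hK₀
    · exact hw
    · exact hz
  · intro hfix
    set β := ψ ⬝ᵥ z
    have hβ : β ∈ K := (hτ β).1 hfix
    have r' := hz.root.conj_root ((hK₀ β).2 hβ)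
    rw [hφz, one_smul, dotProduct_smul, hωv, smul_eq_mul, mul_neg, mul_one, neg_smul, sub_neg_eq_add] at r'
    have hz' : z + β • v₀ ≠ 0 := fun e => hθz (by
      have := congrArg (θ ⬝ᵥ ·) e
      simpa [dotProduct_add, dotProduct_smul, hθv] using this)
    have hω' : ω + β • φ₀ ≠ 0 := fun e => by
      have := congrArg (· ⬝ᵥ v₀) e
      simp [add_dotProduct, smul_dotProduct, hωv, r₀.1] at this
    obtain ⟨s, hs⟩ := H.centre_par h2 hirr hz' hω' hw0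
      (fun e => by rw [e, zero_dotProduct, eq_comm, neg_eq_zero] at hψv; exact one_ne_zero hψv) r' hw.root (by
        rw [add_dotProduct, smul_dotProduct, hφw, k1, hfix, smul_eq_mul, mul_one, neg_add_cancel])
    refine hθz ?_
    have := congrArg (θ ⬝ᵥ ·) hs
    simpa [dotProduct_add, dotProduct_smul, hθv, hθw] using this

namespace Frame

variable {K : Subfield F} {τ : F ≃+* F} (D : Frame P K τ)

/-- The Gram matrix. -/
def A : Matrix (Fin 3) (Fin 3) F := Matrix.of fun i j => D.φ i ⬝ᵥ D.v j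

/-- The matrix of centres. -/
def V₀ : Matrix (Fin 3) (Fin 3) F := Matrix.of fun i j => D.v j i

/-- The matrix of axes. -/
def Φ : Matrix (Fin 3) (Fin 3) F := Matrix.of D.φ

theorem A_eq : D.A = D.Φ * D.V₀ := rfl

theorem skew (i j : Fin 3) : D.φ j ⬝ᵥ D.v i = -τ (D.φ i ⬝ᵥ D.v j) := by
  fin_cases i <;> fin_cases j <;>
    simp [(D.fld _).root.1, D.a01, D.a02, D.a10, D.a20, D.a12, D.a21, D.hβ2]

theorem fix2 (i j : Fin 3) : τ (τ (D.φ i ⬝ᵥ D.v j)) = D.φ i ⬝ᵥ D.v j := by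
  rw [show τ (D.φ i ⬝ᵥ D.v j) = -(D.φ j ⬝ᵥ D.v i) by rw [D.skew i j, neg_neg], map_neg, ← D.skew j i]

theorem A_det : D.A.det ≠ 0 := by
  have e : D.A.det = τ D.β - D.β := by
    rw [Matrix.det_fin_three]
    simp only [A, Matrix.of_apply, D.a01, D.a02, D.a10, D.a20, D.a12, D.a21, (D.fld _).root.1]
    ring
  rw [e]
  exact sub_ne_zero.2 D.hβ

theorem V_det : D.V₀.det ≠ 0 := fun e => D.A_det (by rw [D.A_eq, Matrix.det_mul, e, mul_zero])

theorem Φ_det : D.Φ.det ≠ 0 := fun e => D.A_det (by rw [D.A_eq, Matrix.det_mul, e, zero_mul])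

/-- The centres as a basis. -/
noncomputable def V : GL (Fin 3) F := Matrix.GeneralLinearGroup.mkOfDetNeZero D.V₀ D.V_det

theorem coe_V : (D.V : Matrix (Fin 3) (Fin 3) F) = D.V₀ := rfl

/-- Coordinates with respect to the centres. -/
noncomputable def c (x : Fin 3 → F) : Fin 3 → F :=
  ((D.V⁻¹ : GL (Fin 3) F) : Matrix (Fin 3) (Fin 3) F) *ᵥ x

theorem V_c (x : Fin 3 → F) : D.V₀ *ᵥ D.c x = x := by
  rw [← D.coe_V, c, Matrix.mulVec_mulVec, Units.mul_inv, Matrix.one_mulVec]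

theorem Φ_mulVec (x : Fin 3 → F) (i : Fin 3) : (D.Φ *ᵥ x) i = D.φ i ⬝ᵥ x := rfl

theorem vecMul_V (χ : Fin 3 → F) (j : Fin 3) :
    (χ ᵥ* (D.V : Matrix (Fin 3) (Fin 3) F)) j = χ ⬝ᵥ D.v j := rfl

/-- A transvection read off from its values on the frame. -/
def Good (u χ : Fin 3 → F) : Prop :=
  ∀ j, χ ⬝ᵥ D.v j = -τ (D.φ j ⬝ᵥ u) ∧ τ (τ (D.φ j ⬝ᵥ u)) = D.φ j ⬝ᵥ u

theorem good_v (i : Fin 3) : D.Good (D.v i) (D.φ i) := fun j => ⟨D.skew j i, D.fix2 j i⟩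

theorem all_good (H : Paired P) (h2 : (2 : F) ≠ 0) (hirr : ActsIrreducibly (matrixSet P))
    {u χ : Fin 3 → F} (hu : u ≠ 0) (hχ : χ ≠ 0) (r : Root P u χ) :
    ∃ (u' χ' : Fin 3 → F) (a b : F), u = a • u' ∧ χ = b • χ' ∧ a * b ∈ K ∧ D.Good u' χ' := by
  have hv : D.v 0 ≠ 0 := fun e => by
    have := D.a10; rw [e, dotProduct_zero, eq_comm, neg_eq_zero] at this; exact one_ne_zero this
  have hφ : D.φ 0 ≠ 0 := fun e => by
    have := D.a01; rw [e, zero_dotProduct] at this; exact zero_ne_one this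
  by_cases h1 : D.φ 0 ⬝ᵥ u = 0
  · obtain ⟨s, hs⟩ := H.centre_par h2 hirr hu hχ hv hφ r (D.fld 0).root
      (H (D.v 0) (D.φ 0) u χ hv hφ hu hχ (D.fld 0).root r h1)
    set t := s * (χ ⬝ᵥ D.v 1)
    have ht : t ∈ K := by
      have := (D.fld 1).test h2 hirr r
      rw [hs, dotProduct_smul, D.a10, smul_eq_mul] at this
      convert K.neg_mem this using 1
      simp only [t]; ring
    have r2 : Root P (D.v 0) (s • χ - t • D.φ 0) := by
      refine (root_smul_iff.1 ?_).sub_right (root_smul_iff.1 ((D.fld 0 t).2 ht))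
      rw [← hs]; exact r
    have e : s • χ - t • D.φ 0 = 0 := by
      by_contra h0
      have := H (D.v 0) _ (D.v 1) (D.φ 1) hv h0
        (fun e => by have := D.a01; rw [e, dotProduct_zero] at this; exact zero_ne_one this)
        (fun e => by have := D.a10; rw [e, zero_dotProduct, eq_comm, neg_eq_zero] at this; exact one_ne_zero this)
        r2 (D.fld 1).root (by simp [sub_dotProduct, smul_dotProduct, D.a01, t])
      rw [D.a10, neg_eq_zero] at this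
      exact one_ne_zero this
    have hs0 : s ≠ 0 := fun e' => hu (by rw [hs, e', zero_smul])
    refine ⟨D.v 0, D.φ 0, s, χ ⬝ᵥ D.v 1, hs, ?_, ht, D.good_v 0⟩
    rw [sub_eq_zero] at e
    calc χ = s⁻¹ • (s • χ) := by rw [smul_smul, inv_mul_cancel₀ hs0, one_smul]
      _ = _ := by rw [e, smul_smul]; congr 1; simp only [t]; field_simp
  · have h1' : χ ⬝ᵥ D.v 0 ≠ 0 := fun e => h1 (H u χ (D.v 0) (D.φ 0) hu hχ hv hφ r (D.fld 0).root e)
    obtain ⟨u', χ', hK, e1, e2, eu, eχ, hab⟩ := exists_normalised h2 hirr (D.fld 0) r h1 h1'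
    refine ⟨u', χ', _, _, eu, eχ, hab, fun j => ?_⟩
    fin_cases j
    · simp [e1, e2]
    · exact H.key h2 hirr D.hτ (D.fld 0) (D.fld 1) hK.root D.a10 D.a01 e1 e2
    · exact H.key h2 hirr D.hτ (D.fld 0) (D.fld 2) hK.root D.a20 D.a02 e1 e2

theorem good_axis {u χ : Fin 3 → F} (h : D.Good u χ) : χ = (τ ∘ D.c u) ᵥ* D.Φ := by
  have key : ∀ j, (((τ ∘ D.c u) ᵥ* D.Φ) ᵥ* (D.V : Matrix (Fin 3) (Fin 3) F)) j = χ ⬝ᵥ D.v j := by
    intro j
    rw [Matrix.vecMul_vecMul, D.coe_V, ← D.A_eq, (h j).1]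
    have e : D.φ j ⬝ᵥ u = ∑ k, D.A j k * D.c u k := by
      conv_lhs => rw [← D.V_c u]
      rw [Matrix.dotProduct_mulVec]
      rfl
    rw [e, map_sum, ← Finset.sum_neg_distrib]
    show ∑ k, τ (D.c u k) * D.A k j = _
    refine Finset.sum_congr rfl fun k _ => ?_
    show τ (D.c u k) * (D.φ k ⬝ᵥ D.v j) = -τ ((D.φ j ⬝ᵥ D.v k) * D.c u k)
    rw [D.skew j k, map_mul]; ring
  have e2 : χ ᵥ* (D.V : Matrix (Fin 3) (Fin 3) F) =
      ((τ ∘ D.c u) ᵥ* D.Φ) ᵥ* (D.V : Matrix (Fin 3) (Fin 3) F) := funext fun j => by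
    rw [key, D.vecMul_V]
  have := congrArg (fun z => z ᵥ* ((D.V⁻¹ : GL (Fin 3) F) : Matrix (Fin 3) (Fin 3) F)) e2
  simpa [Matrix.vecMul_vecMul, Matrix.mul_assoc] using this

theorem good_fix {u χ : Fin 3 → F} (h : D.Good u χ) (i : Fin 3) : τ (τ (D.c u i)) = D.c u i := by
  have e : D.A *ᵥ D.c u = fun j => D.φ j ⬝ᵥ u := by
    rw [D.A_eq, ← Matrix.mulVec_mulVec, D.V_c]; rfl
  have e2 : D.A *ᵥ (τ ∘ τ ∘ D.c u) = D.A *ᵥ D.c u := by
    have hA : (D.A.map τ).map τ = D.A := by ext a b; exact D.fix2 a b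
    conv_lhs => rw [← hA]
    rw [map_mulVec', map_mulVec', e]
    funext j; exact (h j).2
  exact congrFun (Matrix.mulVec_injective_iff_isUnit.2
    ((Matrix.isUnit_iff_isUnit_det _).2 (Ne.isUnit D.A_det)) e2) i

end Frame

end Cfsg.Agent.PThree
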