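import Cfsg.Agent.Lib.Classical.PThree.Basic
import Cfsg.Agent.Lib.Classical.TransvectionRoot

/-!
# Transvections of a subgroup of `GL₃`

`Root P v φ`: the transvection `x ↦ x + φ(x) v` lies in `P`.
-/

set_option autoImplicit false
set_option linter.unusedSectionVars false
set_option linter.style.haveILetI false

namespace Cfsg.Agent.PThree

open Matrix Cfsg Cfsg.Geo
open Cfsg.Agent.Small.Generation

variable {F : Type*} [Field F] {P : Subgroup (GL (Fin 3) F)}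

/-- The transvection with centre `v` and functional `φ` lies in `P`. -/
def Root (P : Subgroup (GL (Fin 3) F)) (v φ : Fin 3 → F) : Prop :=
  φ ⬝ᵥ v = 0 ∧ ∃ g ∈ P, (g : Matrix (Fin 3) (Fin 3) F) = tv v φ

theorem Root.dot {v φ : Fin 3 → F} (h : Root P v φ) : φ ⬝ᵥ v = 0 := h.1

theorem tv_mul_self {a c φ : Fin 3 → F} (ha : φ ⬝ᵥ c = 0) : tv a φ * tv c φ = tv (a + c) φ :=
  tv_add_left a c φ ha

theorem tv_zero_left (φ : Fin 3 → F) : tv (0 : Fin 3 → F) φ = 1 := by simp [tv]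

theorem tv_neg_mul {v φ : Fin 3 → F} (h : φ ⬝ᵥ v = 0) : tv (-v) φ * tv v φ = 1 := by
  rw [tv_mul_self h, neg_add_cancel, tv_zero_left]

theorem coe_inv_of_tv {g : GL (Fin 3) F} {v φ : Fin 3 → F} (h : φ ⬝ᵥ v = 0)
    (hg : (g : Matrix (Fin 3) (Fin 3) F) = tv v φ) :
    ((g⁻¹ : GL (Fin 3) F) : Matrix (Fin 3) (Fin 3) F) = tv (-v) φ := by
  have h1 : tv (-v) φ * (g : Matrix (Fin 3) (Fin 3) F) = 1 := by rw [hg, tv_neg_mul h]
  calc ((g⁻¹ : GL (Fin 3) F) : Matrix (Fin 3) (Fin 3) F)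
      = tv (-v) φ * (g : Matrix (Fin 3) (Fin 3) F) * ((g⁻¹ : GL (Fin 3) F) : Matrix (Fin 3) (Fin 3) F) := by
        rw [h1, Matrix.one_mul]
    _ = _ := by rw [Matrix.mul_assoc, ← Units.val_mul, mul_inv_cancel, Units.val_one, Matrix.mul_one]

theorem Root.zero_left (φ : Fin 3 → F) : Root P 0 φ :=
  ⟨dotProduct_zero _, 1, P.one_mem, by rw [tv_zero_left, Units.val_one]⟩

theorem Root.add {a c φ : Fin 3 → F} (ha : Root P a φ) (hc : Root P c φ) : Root P (a + c) φ := by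
  obtain ⟨g, hg, hga⟩ := ha.2
  obtain ⟨k, hk, hkc⟩ := hc.2
  exact ⟨by rw [dotProduct_add, ha.1, hc.1, add_zero], g * k, P.mul_mem hg hk,
    by rw [Units.val_mul, hga, hkc, tv_mul_self hc.1]⟩

theorem Root.neg {a φ : Fin 3 → F} (ha : Root P a φ) : Root P (-a) φ := by
  obtain ⟨g, hg, hga⟩ := ha.2
  exact ⟨by rw [dotProduct_neg, ha.1, neg_zero], g⁻¹, P.inv_mem hg, coe_inv_of_tv ha.1 hga⟩

theorem Root.sub {a c φ : Fin 3 → F} (ha : Root P a φ) (hc : Root P c φ) : Root P (a - c) φ := by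
  rw [sub_eq_add_neg]; exact ha.add hc.neg

theorem root_smul_iff {k : F} {v φ : Fin 3 → F} :
    Root P (k • v) φ ↔ Root P v (k • φ) := by
  constructor <;> rintro ⟨h, g, hg, e⟩
  · rw [dotProduct_smul] at h
    exact ⟨by rw [smul_dotProduct]; exact h, g, hg, by rw [e, tv_smul]⟩
  · rw [smul_dotProduct] at h
    exact ⟨by rw [dotProduct_smul]; exact h, g, hg, by rw [e, tv_smul]⟩

theorem Root.add_right {v φ ψ : Fin 3 → F} (h : Root P v φ) (h' : Root P v ψ) :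
    Root P v (φ + ψ) := by
  obtain ⟨g, hg, hgv⟩ := h.2
  obtain ⟨k, hk, hkv⟩ := h'.2
  refine ⟨by rw [add_dotProduct, h.1, h'.1, add_zero], g * k, P.mul_mem hg hk, ?_⟩
  rw [Units.val_mul, hgv, hkv]
  refine ext_mulVec fun x => ?_
  rw [← Matrix.mulVec_mulVec, tv_mulVec, tv_mulVec, tv_mulVec, dotProduct_add, dotProduct_smul, h.1,
    smul_zero, add_zero, add_dotProduct]
  module

theorem Root.neg_right {v φ : Fin 3 → F} (h : Root P v φ) : Root P v (-φ) := by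
  have h1 := h.neg
  rw [← neg_one_smul F v, root_smul_iff, neg_one_smul] at h1
  exact h1

theorem Root.sub_right {v φ ψ : Fin 3 → F} (h : Root P v φ) (h' : Root P v ψ) :
    Root P v (φ - ψ) := by rw [sub_eq_add_neg]; exact h.add_right h'.neg_right

theorem Root.conj {v φ : Fin 3 → F} (h : Root P v φ) {g : GL (Fin 3) F} (hg : g ∈ P) :
    Root P ((g : Matrix (Fin 3) (Fin 3) F) *ᵥ v)
      (φ ᵥ* ((g⁻¹ : GL (Fin 3) F) : Matrix (Fin 3) (Fin 3) F)) := by
  obtain ⟨k, hk, hkv⟩ := h.2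
  refine ⟨?_, g * k * g⁻¹, P.mul_mem (P.mul_mem hg hk) (P.inv_mem hg), ?_⟩
  · rw [← Matrix.dotProduct_mulVec, Matrix.mulVec_mulVec, ← Units.val_mul, inv_mul_cancel,
      Units.val_one, Matrix.one_mulVec, h.1]
  · rw [Units.val_mul, Units.val_mul, hkv, tv, tv, Matrix.mul_add, Matrix.mul_one, Matrix.add_mul,
      ← Units.val_mul, mul_inv_cancel, Units.val_one, Matrix.mul_vecMulVec, Matrix.vecMulVec_mul]

/-- Conjugation of one transvection by another. -/
theorem Root.conj_root {v φ w ψ : Fin 3 → F} (h : Root P v φ) (h' : Root P w ψ) :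
    Root P (v + (ψ ⬝ᵥ v) • w) (φ - (φ ⬝ᵥ w) • ψ) := by
  obtain ⟨g, hg, hgw⟩ := h'.2
  have h1 := h.conj hg
  rwa [coe_inv_of_tv h'.1 hgw, hgw, tv_mulVec, tv_vecMul, dotProduct_neg, neg_smul,
    ← sub_eq_add_neg] at h1

/-- A second axis at the same centre. -/
theorem Root.second_axis {v φ w ψ : Fin 3 → F} (h : Root P v φ) (h' : Root P w ψ)
    (h0 : ψ ⬝ᵥ v = 0) : Root P v ((φ ⬝ᵥ w) • ψ) := by
  have h1 := h.conj_root h'
  rw [h0, zero_smul, add_zero] at h1
  have h2 := h.sub_right h1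
  rwa [sub_sub_cancel] at h2

/-- A second centre on the same axis. -/
theorem Root.second_centre {v φ w ψ : Fin 3 → F} (h : Root P v φ) (h' : Root P w ψ)
    (h0 : φ ⬝ᵥ w = 0) : Root P ((ψ ⬝ᵥ v) • w) φ := by
  have h1 := h.conj_root h'
  rw [h0, zero_smul, sub_zero] at h1
  have h2 := h1.sub h
  rwa [add_sub_cancel_left] at h2

theorem exists_root {x : GL (Fin 3) F} (hx : x ∈ P) (ht : IsTransvection x) :
    ∃ v φ : Fin 3 → F, v ≠ 0 ∧ φ ≠ 0 ∧ Root P v φ := by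
  obtain ⟨v, φ, hv, hφ, h0, e⟩ := ht
  exact ⟨v, φ, hv, hφ, h0, x, hx, e⟩

theorem root_to_mem {v φ : Fin 3 → F} (h : Root P v φ) {g : GL (Fin 3) F}
    (hg : (g : Matrix (Fin 3) (Fin 3) F) = tv v φ) : g ∈ P := by
  obtain ⟨k, hk, hkv⟩ := h.2
  rwa [Units.ext (hg.trans hkv.symm)]

/-- A functional killing every nonzero centre is zero. -/
theorem exists_centre (hirr : ActsIrreducibly (matrixSet P))
    {v₀ φ₀ : Fin 3 → F} (hv₀ : v₀ ≠ 0) (hφ₀ : φ₀ ≠ 0) (h : Root P v₀ φ₀)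
    {χ : Fin 3 → F} (hχ : χ ≠ 0) :
    ∃ v φ : Fin 3 → F, v ≠ 0 ∧ φ ≠ 0 ∧ Root P v φ ∧ χ ⬝ᵥ v ≠ 0 := by
  classical
  by_contra hcon
  push Not at hcon
  let W : Submodule F (Fin 3 → F) :=
    Submodule.span F {v | v ≠ 0 ∧ ∃ φ : Fin 3 → F, φ ≠ 0 ∧ Root P v φ}
  have hW : W = ⊥ ∨ W = ⊤ := by
    refine hirr W ?_
    rintro _ ⟨g, hg, rfl⟩
    rw [Submodule.map_span, Submodule.span_le]
    rintro _ ⟨v, ⟨hv, φ, hφ, hr⟩, rfl⟩
    rw [Matrix.toLin'_apply]
    refine Submodule.subset_span ⟨fun e => hv ?_, _, fun e => hφ ?_, hr.conj hg⟩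
    · have := congrArg (fun w => ((g⁻¹ : GL (Fin 3) F) : Matrix (Fin 3) (Fin 3) F) *ᵥ w) e
      simpa [Matrix.mulVec_mulVec] using this
    · have := congrArg (fun w => w ᵥ* (g : Matrix (Fin 3) (Fin 3) F)) e
      simpa [Matrix.vecMul_vecMul] using this
  have hv0W : v₀ ∈ W := Submodule.subset_span ⟨hv₀, φ₀, hφ₀, h⟩
  rcases hW with hW | hW
  · rw [hW, Submodule.mem_bot] at hv0W
    exact hv₀ hv0W
  · refine hχ (dotProduct_eq_zero _ fun z => ?_)
    have hz : z ∈ W := hW ▸ trivial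
    induction hz using Submodule.span_induction with
    | mem v hv => exact hcon v hv.2.choose hv.1 hv.2.choose_spec.1 hv.2.choose_spec.2
    | zero => exact dotProduct_zero _
    | add a b _ _ ha hb => rw [dotProduct_add, ha, hb, add_zero]
    | smul k a _ ha => rw [dotProduct_smul, ha, smul_zero]

/-- A vector killed by every nonzero axis is zero. -/
theorem exists_axis (hirr : ActsIrreducibly (matrixSet P))
    {v₀ φ₀ : Fin 3 → F} (hv₀ : v₀ ≠ 0) (hφ₀ : φ₀ ≠ 0) (h : Root P v₀ φ₀)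
    {z : Fin 3 → F} (hz : z ≠ 0) :
    ∃ v φ : Fin 3 → F, v ≠ 0 ∧ φ ≠ 0 ∧ Root P v φ ∧ φ ⬝ᵥ z ≠ 0 := by
  classical
  by_contra hcon
  push Not at hcon
  let W : Submodule F (Fin 3 → F) :=
    { carrier := {x | ∀ v φ : Fin 3 → F, v ≠ 0 → φ ≠ 0 → Root P v φ → φ ⬝ᵥ x = 0}
      zero_mem' := fun _ _ _ _ _ => dotProduct_zero _
      add_mem' := fun {a b} ha hb v φ hv hφ hr => by
        rw [dotProduct_add, ha v φ hv hφ hr, hb v φ hv hφ hr, add_zero]
      smul_mem' := fun k a ha v φ hv hφ hr => by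
        rw [dotProduct_smul, ha v φ hv hφ hr, smul_zero] }
  have hW : W = ⊥ ∨ W = ⊤ := by
    refine hirr W ?_
    rintro _ ⟨g, hg, rfl⟩ _ ⟨x, hx, rfl⟩
    rw [Matrix.toLin'_apply]
    intro v φ hv hφ hr
    have hg' := P.inv_mem hg
    have hr' := hr.conj hg'
    rw [inv_inv] at hr'
    rw [Matrix.dotProduct_mulVec]
    refine hx _ _ (fun e => hv ?_) (fun e => hφ ?_) hr'
    · have := congrArg (fun w => (g : Matrix (Fin 3) (Fin 3) F) *ᵥ w) e
      simpa [Matrix.mulVec_mulVec] using this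
    · have := congrArg (fun w => w ᵥ* ((g⁻¹ : GL (Fin 3) F) : Matrix (Fin 3) (Fin 3) F)) e
      simpa [Matrix.vecMul_vecMul] using this
  rcases hW with hW | hW
  · have : z ∈ W := hcon
    rw [hW, Submodule.mem_bot] at this
    exact hz this
  · exact hφ₀ (dotProduct_eq_zero _ fun x => (hW ▸ trivial : x ∈ W) v₀ φ₀ hv₀ hφ₀ h)

/-- Every transvection of an irreducible group has an opposite one. -/
theorem exists_opposite (hirr : ActsIrreducibly (matrixSet P))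
    {v φ : Fin 3 → F} (hv : v ≠ 0) (hφ : φ ≠ 0) (h : Root P v φ) :
    ∃ w ψ : Fin 3 → F, Root P w ψ ∧ φ ⬝ᵥ w ≠ 0 ∧ ψ ⬝ᵥ v ≠ 0 := by
  obtain ⟨w, ψ, hw0, hψ0, hw, h1⟩ := exists_centre hirr hv hφ h hφ
  by_cases h2 : ψ ⬝ᵥ v = 0
  · obtain ⟨u, χ, hu0, -, hu, h3⟩ := exists_axis hirr hv hφ h hv
    by_cases h4 : φ ⬝ᵥ u = 0
    · by_cases h5 : ψ ⬝ᵥ u = 0
      · exfalso
        -- `v`, `u`, `w` would be a basis inside the kernel of `ψ`
        have hli : LinearIndependent F ![v, u, w] := by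
          refine Fintype.linearIndependent_iff.2 fun c hc => ?_
          simp only [Fin.sum_univ_three, Matrix.cons_val_zero, Matrix.cons_val_one, Matrix.cons_val] at hc
          have e1 := congrArg (fun x => φ ⬝ᵥ x) hc
          simp [dotProduct_add, dotProduct_smul, h.1, h4, h1] at e1
          have e2 := congrArg (fun x => χ ⬝ᵥ x) hc
          simp [e1, dotProduct_add, dotProduct_smul, hu.1, h3] at e2
          rw [e1, e2, zero_smul, zero_smul, zero_add, add_zero, smul_eq_zero, or_iff_left hu0] at hc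
          intro i
          fin_cases i <;> assumption
        refine hψ0 (dotProduct_eq_zero _ fun z => ?_)
        have hz : z ∈ Submodule.span F (Set.range ![v, u, w]) := by
          rw [hli.span_eq_top_of_card_eq_finrank (by simp)]; trivial
        obtain ⟨c, rfl⟩ := (Submodule.mem_span_range_iff_exists_fun F).1 hz
        simp [Fin.sum_univ_three, h2, h5, hw.1]
      · refine ⟨_, _, hu.conj_root hw, ?_, ?_⟩
        · rw [dotProduct_add, h4, zero_add, dotProduct_smul]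
          exact mul_ne_zero h5 h1
        · rw [sub_dotProduct, smul_dotProduct, h2, smul_zero, sub_zero]
          exact h3
    · exact ⟨u, χ, hu, h4, h3⟩
  · exact ⟨w, ψ, hw, h1, h2⟩

end Cfsg.Agent.PThree
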